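import Mathlib
import Groth.Prelude.Def_W4bk4boschfrg79

/-!
Maps out of the completion of an algebra along an ideal extended from the base ring.
-/

namespace Groth.Agent.AdicRingLib

universe u v w

variable {R : Type u} [CommRing R] (I : Ideal R) {S : Type v} [CommRing S] [Algebra R S]
  {B : Type w} [CommRing B] [Algebra R B]

theorem map_pow_le_comap (g : S →ₐ[R] B) (n : ℕ) :
    (I.map (algebraMap R S)) ^ n ≤ ((I.map (algebraMap R B)) ^ n).comap g := by
  rw [← Ideal.map_pow, ← Ideal.map_pow, Ideal.map_le_iff_le_comap]
  intro a ha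
  rw [Ideal.mem_comap, Ideal.mem_comap, AlgHom.commutes]
  exact Ideal.mem_map_of_mem _ ha

variable [IsAdicComplete (I.map (algebraMap R B)) B]

omit [IsAdicComplete (I.map (algebraMap R B)) B] in
theorem lift_compat (g : S →ₐ[R] B) {m n : ℕ} (hle : m ≤ n) :
    (Ideal.Quotient.factorₐ R (Ideal.pow_le_pow_right hle)).comp
        ((Ideal.quotientMapₐ _ g (map_pow_le_comap I g n)).comp
          ((AdicCompletion.evalₐ (I.map (algebraMap R S)) n).restrictScalars R)) =
      (Ideal.quotientMapₐ _ g (map_pow_le_comap I g m)).comp
        ((AdicCompletion.evalₐ (I.map (algebraMap R S)) m).restrictScalars R) := by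
  refine AlgHom.ext fun x => ?_
  obtain ⟨y, rfl⟩ := AdicCompletion.mk_surjective (I.map (algebraMap R S)) S x
  simp only [AlgHom.comp_apply, AlgHom.restrictScalars_apply, AdicCompletion.evalₐ_mk]
  refine Ideal.Quotient.eq.2 ?_
  rw [← map_sub]
  refine map_pow_le_comap I g m ?_
  have := y.property hle
  rw [SModEq.comm, SModEq.sub_mem] at this
  simpa using this

/-- The map from the completion of `S` induced by `S → B` when `B` is complete. -/
noncomputable def completionLift (g : S →ₐ[R] B) :
    AdicCompletion (I.map (algebraMap R S)) S →ₐ[R] B :=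
  IsAdicComplete.liftAlgHom (I.map (algebraMap R B))
    (fun n => (Ideal.quotientMapₐ _ g (map_pow_le_comap I g n)).comp
      ((AdicCompletion.evalₐ (I.map (algebraMap R S)) n).restrictScalars R))
    (fun {m n} hle => lift_compat I g hle)

@[simp]
theorem completionLift_of (g : S →ₐ[R] B) (x : S) :
    completionLift I g (AdicCompletion.of _ S x) = g x := by
  refine eq_of_sub_eq_zero (IsHausdorff.haus inferInstance (I := I.map (algebraMap R B)) _ fun n => ?_)
  rw [SModEq.zero, smul_eq_mul, Ideal.mul_top, ← Ideal.Quotient.eq]
  unfold completionLift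
  rw [IsAdicComplete.mk_liftAlgHom _ _ (fun {m n} hle => lift_compat I g hle)]
  simp

omit [IsAdicComplete (I.map (algebraMap R B)) B] in
/-- Two maps out of a completion agreeing on `S` agree, if the target is separated. -/
theorem completion_algHom_ext [IsHausdorff (I.map (algebraMap R B)) B] (hI : I.FG)
    {f₁ f₂ : AdicCompletion (I.map (algebraMap R S)) S →ₐ[R] B}
    (h : ∀ x : S, f₁ (AdicCompletion.of _ S x) = f₂ (AdicCompletion.of _ S x)) : f₁ = f₂ := by
  refine AlgHom.ext fun x => ?_
  refine eq_of_sub_eq_zero (IsHausdorff.haus inferInstance (I := I.map (algebraMap R B)) _ fun n => ?_)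
  rw [SModEq.zero, smul_eq_mul, Ideal.mul_top]
  obtain ⟨s, hs⟩ := Submodule.Quotient.mk_surjective _
    (AdicCompletion.eval (I.map (algebraMap R S)) S n x)
  have hker : x - AdicCompletion.of _ S s ∈
      LinearMap.ker (AdicCompletion.eval (I.map (algebraMap R S)) S n) := by
    rw [LinearMap.mem_ker, map_sub, sub_eq_zero, ← hs]
    rfl
  rw [← AdicCompletion.pow_smul_top_eq_ker_eval (hI.map _)] at hker
  have key : ∀ z ∈ ((I.map (algebraMap R S)) ^ n • ⊤ :
      Submodule S (AdicCompletion (I.map (algebraMap R S)) S)),
      f₁ z - f₂ z ∈ (I.map (algebraMap R B)) ^ n := by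
    intro z hz
    rw [← Ideal.map_pow] at hz
    refine Submodule.smul_induction_on hz (fun r hr y _ => ?_) fun a b ha hb => ?_
    · induction hr using Submodule.span_induction generalizing y with
      | mem r hr =>
        obtain ⟨a, ha, rfl⟩ := hr
        have e : algebraMap R S a • y =
            algebraMap R (AdicCompletion (I.map (algebraMap R S)) S) a * y := by
          rw [Algebra.smul_def]
          rfl
        rw [e, map_mul, map_mul, AlgHom.commutes, AlgHom.commutes, ← mul_sub, ← Ideal.map_pow]
        exact Ideal.mul_mem_right _ _ (Ideal.mem_map_of_mem _ ha)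
      | zero => simp
      | add a b _ _ ha hb =>
        rw [add_smul, map_add, map_add, add_sub_add_comm]
        exact add_mem (ha y trivial) (hb y trivial)
      | smul c r _ hr =>
        rw [smul_eq_mul, mul_comm, mul_smul]
        exact hr _ trivial
    · rw [map_add, map_add, add_sub_add_comm]
      exact add_mem ha hb
  have := key _ hker
  rwa [map_sub, map_sub, h, sub_sub_sub_cancel_right] at this

end Groth.Agent.AdicRingLib
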