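import Mathlib
import Groth.Agent.AdicRingLib.Lift

/-!
Universal property of the charts of an admissible formal blowing-up.
-/

namespace Groth.Agent.AdicRingLib

universe u

open AdicRing

theorem fg_of_isBase {R : Type u} [CommRing R] {I : Ideal R} (hR : IsBase R I) : I.FG := by
  rcases hR.2 with ⟨h, -⟩ | ⟨-, -, -, t, -, rfl⟩
  · exact IsNoetherian.noetherian I
  · exact ⟨{t}, by simp⟩

variable {R : Type u} [CommRing R] {I : Ideal R}

/-- Maps out of the completion divided by the torsion of an element. -/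
theorem existsUnique_torsionQuot_lift {S : Type u} [CommRing S] [Algebra R S] {B : Type u} [CommRing B]
    [Algebra R B] [IsAdicComplete (I.map (algebraMap R B)) B] (hI : I.FG) (g : S →ₐ[R] B)
    (s : AdicCompletion (I.map (algebraMap R S)) S) (a : S) (hs : s = AdicCompletion.of _ _ a)
    (hnzd : g a ∈ nonZeroDivisors B) :
    ∃! ψ : (AdicCompletion (I.map (algebraMap R S)) S ⧸
        (⨆ n : ℕ, Submodule.torsionBy (AdicCompletion (I.map (algebraMap R S)) S)
          (AdicCompletion (I.map (algebraMap R S)) S) (s ^ n) :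
          Ideal (AdicCompletion (I.map (algebraMap R S)) S))) →ₐ[R] B,
      ∀ x : S, ψ (Ideal.Quotient.mk _ (AdicCompletion.of _ _ x)) = g x := by
  have hT : (⨆ n : ℕ, Submodule.torsionBy (AdicCompletion (I.map (algebraMap R S)) S)
      (AdicCompletion (I.map (algebraMap R S)) S) (s ^ n) :
      Ideal (AdicCompletion (I.map (algebraMap R S)) S)) ≤ RingHom.ker (completionLift I g) :=
    iSup_le fun n y hy => by
      rw [Submodule.mem_torsionBy_iff, smul_eq_mul] at hy
      have h := congrArg (completionLift I g) hy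
      rw [map_mul, map_pow, hs, completionLift_of, map_zero] at h
      exact (mem_nonZeroDivisors_iff.1 (pow_mem hnzd n)).1 _ h
  refine ⟨Ideal.Quotient.liftₐ _ (completionLift I g) hT, fun x => completionLift_of I g x,
    fun ψ hψ => Ideal.Quotient.algHom_ext R (completion_algHom_ext I hI fun x => ?_)⟩
  exact (hψ x).trans (completionLift_of I g x).symm

variable {A : Type u} [CommRing A] [Algebra R A]
  {r : ℕ} (f : Fin (r + 1) → A) (i : Fin (r + 1))
  {B : Type u} [CommRing B] [Algebra R B]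

theorem exists_chartAlg_hom (φ : A →ₐ[R] B) (hnzd : φ (f i) ∈ nonZeroDivisors B)
    (hgen : (Ideal.span (Set.range f)).map φ = Ideal.span {φ (f i)}) :
    ∃ g : chartAlg f i →ₐ[R] B, (∀ a, g (algebraMap A (chartAlg f i) a) = φ a) ∧
      ∀ q : chartAlg f i →+* B, (∀ a, q (algebraMap A (chartAlg f i) a) = φ a) → ∀ x, q x = g x := by
  letI : Algebra A B := φ.toRingHom.toAlgebra
  haveI : IsScalarTower R A B := IsScalarTower.of_algebraMap_eq fun r => (φ.commutes r).symm
  have hb : ∀ j : {j : Fin (r + 1) // j ≠ i}, ∃ b : B, b * φ (f i) = φ (f j.1) := fun j =>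
    Ideal.mem_span_singleton'.1 (hgen ▸ Ideal.mem_map_of_mem φ (Ideal.subset_span ⟨j.1, rfl⟩))
  choose b hb using hb
  have hK : ∀ p ∈ Ideal.span (Set.range fun j : {j : Fin (r + 1) // j ≠ i} =>
      MvPolynomial.C (f i) * MvPolynomial.X j - MvPolynomial.C (f j.1)),
      MvPolynomial.aeval b p = (0 : B) := by
    intro p hp
    induction hp using Submodule.span_induction with
    | mem p hp =>
      obtain ⟨j, rfl⟩ := hp
      simp [RingHom.algebraMap_toAlgebra, mul_comm (φ (f i)), hb j]
    | zero => simp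
    | add a b _ _ ha hb => simp [ha, hb]
    | smul c p _ hp => simp [hp]
  let g : chartAlg f i →ₐ[A] B := Ideal.Quotient.liftₐ _ (MvPolynomial.aeval b) hK
  refine ⟨g.restrictScalars R, fun a => g.commutes a, fun q hq x => ?_⟩
  obtain ⟨p, rfl⟩ := Ideal.Quotient.mk_surjective x
  have hC : ∀ a, q (Ideal.Quotient.mk _ (MvPolynomial.C a)) = φ a := hq
  refine RingHom.congr_fun (MvPolynomial.ringHom_ext (f := q.comp (Ideal.Quotient.mk _))
    (g := (MvPolynomial.aeval b : _ →ₐ[A] B).toRingHom)
    (fun a => (hC a).trans (MvPolynomial.aeval_C b a).symm)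
    (fun j => Eq.trans ?_ (MvPolynomial.aeval_X b j).symm)) p
  have hrel : q (Ideal.Quotient.mk _ (MvPolynomial.C (f i) * MvPolynomial.X j - MvPolynomial.C (f j.1)))
      = 0 := by
    exact (congrArg q (Ideal.Quotient.eq_zero_iff_mem.2 (Ideal.subset_span ⟨j, rfl⟩))).trans (map_zero q)
  rw [map_sub, map_mul, map_sub, map_mul, hC, hC, ← hb j, mul_comm (b j), ← mul_sub] at hrel
  exact sub_eq_zero.1 ((mem_nonZeroDivisors_iff.1 hnzd).1 _ hrel)

theorem existsUnique_chartAdm_lift [IsAdicComplete (I.map (algebraMap R B)) B] (hI : I.FG)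
    (φ : A →ₐ[R] B) (hnzd : φ (f i) ∈ nonZeroDivisors B)
    (hgen : (Ideal.span (Set.range f)).map φ = Ideal.span {φ (f i)}) :
    ∃! ψ : chartAdm I f i →ₐ[R] B, ψ.comp (IsScalarTower.toAlgHom R A (chartAdm I f i)) = φ := by
  obtain ⟨g, hgA, hg⟩ := exists_chartAlg_hom f i φ hnzd hgen
  obtain ⟨ψ, hψ, huniq⟩ := existsUnique_torsionQuot_lift hI g (algebraMap A (chartCompl I f i) (f i))
    (algebraMap A (chartAlg f i) (f i)) rfl (by rw [hgA]; exact hnzd)
  refine ⟨ψ, AlgHom.ext fun a => (hψ _).trans (hgA a), fun ψ' hψ' => huniq ψ' fun x => ?_⟩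
  exact hg (ψ'.toRingHom.comp ((Ideal.Quotient.mk _).comp
    (algebraMap (chartAlg f i) (chartCompl I f i)))) (fun a => DFunLike.congr_fun hψ' a) x

end Groth.Agent.AdicRingLib
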