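import Mathlib

/-!
Polynomials in finitely many elements are dense for an adic topology with finite type reduction.
-/

namespace Groth.Agent.AdicRingLib

universe u

theorem exists_mvPolynomial_dense {A B : Type u} [CommRing A] [CommRing B] [Algebra A B] [IsNoetherianRing B]
    (J : Ideal B) (hft : Algebra.FiniteType A (B ⧸ J.radical)) :
    ∃ s : ℕ, ∃ b : Fin s → B, ∀ (y : B) (n : ℕ), ∃ p : MvPolynomial (Fin s) A,
      y - MvPolynomial.aeval b p ∈ J ^ n := by
  classical
  set R' := J.radical with hR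
  obtain ⟨G, hG⟩ := (IsNoetherian.noetherian R' : R'.FG)
  obtain ⟨F, hF⟩ := hft
  choose lift hlift using fun x : B ⧸ R' => Ideal.Quotient.mk_surjective x
  let T : Finset B := G ∪ F.image lift
  let e := T.equivFin.symm
  let b : Fin T.card → B := fun i => (e i : B)
  let S : Subalgebra A B := (MvPolynomial.aeval b).range
  have hTS : ∀ x ∈ T, x ∈ S := fun x hx =>
    ⟨MvPolynomial.X (e.symm ⟨x, hx⟩), by simp [b]⟩
  have h0 : ∀ y : B, ∃ s ∈ S, y - s ∈ R' := by
    intro y
    let q : B →ₐ[A] B ⧸ R' := Ideal.Quotient.mkₐ A R'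
    have : Ideal.Quotient.mk R' y ∈ S.map q := by
      have hle : (⊤ : Subalgebra A (B ⧸ R')) ≤ S.map q := by
        rw [← hF, Algebra.adjoin_le_iff]
        intro x hx
        exact ⟨lift x, hTS _ (Finset.mem_union_right _ (Finset.mem_image_of_mem _ hx)), hlift x⟩
      exact hle trivial
    obtain ⟨s, hs, hsy⟩ := this
    exact ⟨s, hs, Ideal.Quotient.eq.1 hsy.symm⟩
  have h1 : ∀ a ∈ R', ∃ s ∈ S, s ∈ R' ∧ a - s ∈ R' ^ 2 := by
    intro a ha
    rw [← hG] at ha
    induction ha using Submodule.span_induction with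
    | mem x hx => exact ⟨x, hTS x (Finset.mem_union_left _ hx), hG ▸ Submodule.subset_span hx, by simp⟩
    | zero => exact ⟨0, zero_mem _, zero_mem _, by simp⟩
    | add x y _ _ hx hy =>
      obtain ⟨s, hs, hsR, hxs⟩ := hx
      obtain ⟨s', hs', hsR', hys⟩ := hy
      exact ⟨s + s', add_mem hs hs', add_mem hsR hsR', by rw [add_sub_add_comm]; exact add_mem hxs hys⟩
    | smul c x _ hx =>
      obtain ⟨s, hs, hsR, hxs⟩ := hx
      obtain ⟨c', hc', hcc⟩ := h0 c
      refine ⟨c' * s, mul_mem hc' hs, R'.mul_mem_left _ hsR, ?_⟩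
      have e1 : c • x - c' * s = c * (x - s) + (c - c') * s := by rw [smul_eq_mul]; ring
      rw [e1]
      exact add_mem (Ideal.mul_mem_left _ _ hxs) (by rw [pow_two]; exact Ideal.mul_mem_mul hcc hsR)
  have hstep : ∀ m, ∀ z ∈ R' ^ m, ∃ s ∈ S, s ∈ R' ^ m ∧ z - s ∈ R' ^ (m + 1) := by
    intro m
    induction m with
    | zero =>
      intro z _
      obtain ⟨s, hs, hzs⟩ := h0 z
      exact ⟨s, hs, by simp, by rwa [pow_one]⟩
    | succ m ih =>
      intro z hz
      rw [pow_succ'] at hz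
      refine Submodule.mul_induction_on hz (fun a ha c hc => ?_) fun x y hx hy => ?_
      · obtain ⟨sa, hsa, hsaR, haa⟩ := h1 a ha
        obtain ⟨sc, hsc, hscR, hcc⟩ := ih c hc
        refine ⟨sa * sc, mul_mem hsa hsc, by rw [pow_succ']; exact Ideal.mul_mem_mul hsaR hscR, ?_⟩
        have e1 : a * c - sa * sc = a * (c - sc) + (a - sa) * sc := by ring
        rw [e1]
        refine add_mem ?_ ?_
        · rw [pow_succ']; exact Ideal.mul_mem_mul ha hcc
        · rw [show m + 1 + 1 = 2 + m by ring, pow_add]; exact Ideal.mul_mem_mul haa hscR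
      · obtain ⟨s, hs, hsR, hxs⟩ := hx
        obtain ⟨s', hs', hsR', hys⟩ := hy
        exact ⟨s + s', add_mem hs hs', add_mem hsR hsR', by rw [add_sub_add_comm]; exact add_mem hxs hys⟩
  have hmain : ∀ m, ∀ y : B, ∃ s ∈ S, y - s ∈ R' ^ m := by
    intro m
    induction m with
    | zero => exact fun y => ⟨0, zero_mem _, by simp⟩
    | succ m ih =>
      intro y
      obtain ⟨s, hs, hys⟩ := ih y
      obtain ⟨s', hs', -, h⟩ := hstep m _ hys
      exact ⟨s + s', add_mem hs hs', by rwa [← sub_sub]⟩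
  obtain ⟨k, hk⟩ := Ideal.exists_radical_pow_le_of_fg J (IsNoetherian.noetherian _)
  refine ⟨T.card, b, fun y n => ?_⟩
  obtain ⟨s, ⟨p, rfl⟩, hys⟩ := hmain (k * n) y
  refine ⟨p, ?_⟩
  rw [pow_mul] at hys
  exact Ideal.pow_right_mono hk n hys

end Groth.Agent.AdicRingLib
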