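import Mathlib
import Groth.Agent.AdicRingLib.Lift

/-!
Lifting closed points of the special fibre of restricted power series to one-dimensional quotients.
-/

namespace Groth.Agent.AdicRingLib

universe u

open MvPolynomial

variable {R : Type u} [CommRing R] [IsDomain R] [ValuationRing R] [Ring.KrullDimLE 1 R] (t : R)

theorem isAdicComplete_of_equiv_pi {R : Type*} [CommRing R] (I : Ideal R) [IsAdicComplete I R]
    {M : Type*} [AddCommGroup M] [Module R M] {ι : Type*} [Fintype ι] (e : M ≃ₗ[R] (ι → R)) :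
    IsAdicComplete I M := by
  classical
  rw [← AdicCompletion.of_bijective_iff]
  let e' : AdicCompletion I M ≃ (ι → R) :=
    ((AdicCompletion.congr I e).toEquiv.trans (AdicCompletion.piEquivOfFintype I fun _ : ι => R).toEquiv).trans
      (Equiv.piCongrRight fun _ => (AdicCompletion.ofLinearEquiv I R).symm.toEquiv)
  have h : ⇑e' ∘ ⇑(AdicCompletion.of I M) = ⇑e := by
    funext m i
    refine (AdicCompletion.ofLinearEquiv I R).injective ?_
    refine ((AdicCompletion.ofLinearEquiv I R).apply_symm_apply _).trans ?_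
    show AdicCompletion.piEquivOfFintype I (fun _ : ι => R) (AdicCompletion.congr I e (AdicCompletion.of I M m)) i = _
    rw [AdicCompletion.congr_apply, AdicCompletion.map_of, AdicCompletion.piEquivOfFintype_apply]
    rfl
  exact ((e'.bijective.of_comp_iff' _).1 (h ▸ e.bijective))

theorem le_zero_of_lt_one {d : WithBot ℕ∞} (h : d < 1) : d ≤ 0 := by
  induction d using WithBot.recBotCoe with
  | bot => exact bot_le
  | coe a =>
    norm_cast at h ⊢
    exact (ENat.lt_one_iff_eq_zero.1 h).le

/-- A finite injective domain over `R` is complete. -/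
theorem isAdicComplete_of_finite_domain [IsAdicComplete (Ideal.span {t}) R] (C : Type u) [CommRing C]
    [IsDomain C] [Algebra R C] [Module.Finite R C] (hinj : Function.Injective (algebraMap R C)) :
    IsAdicComplete ((Ideal.span {t}).map (algebraMap R C)) C := by
  have : FaithfulSMul R C := (faithfulSMul_iff_algebraMap_injective R C).2 hinj
  have : Module.IsTorsionFree R C := Module.IsTorsionFree.trans_faithfulSMul R C C
  have : Module.Flat R C := Module.Flat.flat_iff_torsion_eq_bot_of_isBezout.2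
    (Submodule.isTorsionFree_iff_torsion_eq_bot.1 inferInstance)
  have : Module.Free R C := Module.free_of_flat_of_isLocalRing
  let b := Module.Free.chooseBasis R C
  let e : C ≃ₗ[R] (Module.Free.ChooseBasisIndex R C → R) := b.equivFun
  have : IsAdicComplete (Ideal.span {t}) C := isAdicComplete_of_equiv_pi _ e
  exact (IsAdicComplete.map_algebraMap_iff (I := Ideal.span {t}) (M := C)).2 inferInstance

set_option synthInstance.maxHeartbeats 200000 in
theorem exists_lift_of_maximal (ht : t ≠ 0) {n : ℕ}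
    (M : Ideal (MvPolynomial (Fin n) R)) [M.IsMaximal] (hM : C t ∈ M) :
    ∃ (C' : Type u) (_ : CommRing C') (_ : IsDomain C') (_ : Algebra R C') (_ : Module.Finite R C')
      (g : MvPolynomial (Fin n) R →ₐ[R] C') (N : Ideal C'), Function.Injective (algebraMap R C') ∧
      N.IsPrime ∧ N.comap g = M := by
  classical
  set 𝔪 := M.comap (C : R →+* MvPolynomial (Fin n) R) with h𝔪
  have hmax : 𝔪.IsMaximal :=
    Ideal.IsPrime.isMaximal_of_ne_bot (Ideal.IsPrime.comap _) fun h => ht <| by
      have : t ∈ 𝔪 := hM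
      rwa [h, Ideal.mem_bot] at this
  letI : Field (R ⧸ 𝔪) := Ideal.Quotient.field _
  letI : Field (MvPolynomial (Fin n) R ⧸ M) := Ideal.Quotient.field _
  letI : Algebra (R ⧸ 𝔪) (MvPolynomial (Fin n) R ⧸ M) :=
    (Ideal.quotientMap M (C : R →+* MvPolynomial (Fin n) R) le_rfl).toAlgebra
  haveI : IsScalarTower R (R ⧸ 𝔪) (MvPolynomial (Fin n) R ⧸ M) :=
    IsScalarTower.of_algebraMap_eq fun _ => rfl
  haveI : Algebra.FiniteType (R ⧸ 𝔪) (MvPolynomial (Fin n) R ⧸ M) :=
    Algebra.FiniteType.of_restrictScalars_finiteType R (R ⧸ 𝔪) _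
  haveI : Module.Finite (R ⧸ 𝔪) (MvPolynomial (Fin n) R ⧸ M) :=
    finite_of_finite_type_of_isJacobsonRing (R ⧸ 𝔪) _
  haveI : Module.Finite R (MvPolynomial (Fin n) R ⧸ M) := Module.Finite.trans (R ⧸ 𝔪) _
  have hint : ∀ j, IsIntegral R (Ideal.Quotient.mk M (X j)) := fun j => IsIntegral.of_finite R _
  choose q hq hq0 using hint
  let Ω := AlgebraicClosure (FractionRing R)
  let Cb := integralClosure R Ω
  have hinjΩ : Function.Injective (algebraMap R Ω) := by
    rw [IsScalarTower.algebraMap_eq R (FractionRing R) Ω]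
    exact (algebraMap (FractionRing R) Ω).injective.comp (IsFractionRing.injective R (FractionRing R))
  have hinjC : Function.Injective (algebraMap R Cb) := fun a b h => hinjΩ (congrArg Subtype.val h)
  have hker : RingHom.ker (algebraMap R Cb) ≤ 𝔪 := by
    rw [(RingHom.injective_iff_ker_eq_bot _).1 hinjC]; exact bot_le
  obtain ⟨Nb, hNb, hNbc⟩ := Ideal.exists_ideal_over_maximal_of_isIntegral (S := Cb) 𝔪 hker
  letI : Field (Cb ⧸ Nb) := Ideal.Quotient.field _
  letI : Algebra (R ⧸ 𝔪) (Cb ⧸ Nb) :=
    (Ideal.quotientMap Nb (algebraMap R Cb) hNbc.ge).toAlgebra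
  haveI : IsScalarTower R (R ⧸ 𝔪) (Cb ⧸ Nb) := IsScalarTower.of_algebraMap_eq fun _ => rfl
  let Λ := AlgebraicClosure (Cb ⧸ Nb)
  let π : Cb →ₐ[R] Λ := (IsScalarTower.toAlgHom R (Cb ⧸ Nb) Λ).comp (Ideal.Quotient.mkₐ R Nb)
  have hπ : RingHom.ker π = Nb := by
    ext x
    exact (map_eq_zero_iff _ (algebraMap (Cb ⧸ Nb) Λ).injective).trans Ideal.Quotient.eq_zero_iff_mem
  let φ : (MvPolynomial (Fin n) R ⧸ M) →ₐ[R] Λ :=
    ((IsAlgClosed.lift : (MvPolynomial (Fin n) R ⧸ M) →ₐ[R ⧸ 𝔪] Λ)).restrictScalars R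
  have hroot : ∀ j, ∃ α : Cb, π α = φ (Ideal.Quotient.mk M (X j)) := fun j => by
    let s : Multiset Ω := ((q j).map (algebraMap R Ω)).roots
    have hs : ∀ a ∈ s, IsIntegral R a := fun a ha => ⟨q j, hq j, by
      have := (Polynomial.mem_roots'.1 ha).2
      rwa [Polynomial.IsRoot, Polynomial.eval_map] at this⟩
    have hfac : (q j).map (algebraMap R Cb) =
        (s.attach.map fun a => Polynomial.X - Polynomial.C (⟨a.1, hs a.1 a.2⟩ : Cb)).prod := by
      refine Polynomial.map_injective (Cb.val : Cb →+* Ω) Subtype.val_injective ?_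
      rw [Polynomial.map_map, Polynomial.map_multiset_prod, Multiset.map_map]
      refine ((IsAlgClosed.splits _).eq_prod_roots_of_monic ((hq j).map (algebraMap R Ω))).trans ?_
      refine congrArg Multiset.prod ?_
      show Multiset.map _ s = _
      conv_lhs => rw [← Multiset.attach_map_val s, Multiset.map_map]
      exact Multiset.map_congr rfl fun a _ => by simp
    have h0 : Polynomial.aeval (φ (Ideal.Quotient.mk M (X j))) (q j) = 0 := by
      rw [Polynomial.aeval_algHom_apply, show Polynomial.aeval (Ideal.Quotient.mk M (X j)) (q j) = 0 from hq0 j,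
        map_zero]
    rw [Polynomial.aeval_def, ← π.comp_algebraMap, ← Polynomial.eval₂_map, hfac,
      Polynomial.eval₂_multiset_prod, Multiset.prod_eq_zero_iff, Multiset.map_map, Multiset.mem_map] at h0
    obtain ⟨a, -, ha⟩ := h0
    refine ⟨⟨a.1, hs a.1 a.2⟩, ?_⟩
    simp only [Function.comp_apply, Polynomial.eval₂_sub, Polynomial.eval₂_X, Polynomial.eval₂_C,
      sub_eq_zero] at ha
    exact ha.symm
  choose α hα using hroot
  let C₁ : Subalgebra R Cb := Algebra.adjoin R (Set.range α)
  have hfin : Module.Finite R C₁ := Algebra.finite_adjoin_of_finite_of_isIntegral (Set.finite_range α)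
    fun x _ => Algebra.IsIntegral.isIntegral x
  let g : MvPolynomial (Fin n) R →ₐ[R] C₁ := aeval fun j => ⟨α j, Algebra.subset_adjoin ⟨j, rfl⟩⟩
  have hcomp : (π.comp C₁.val).comp g = φ.comp (Ideal.Quotient.mkₐ R M) :=
    MvPolynomial.algHom_ext fun j => by
      show π (g (X j)).1 = _
      rw [aeval_X]
      exact hα j
  refine ⟨C₁, inferInstance, inferInstance, inferInstance, hfin, g, Nb.comap C₁.val,
    fun a b h => hinjC (congrArg Subtype.val h), Ideal.IsPrime.comap _, ?_⟩
  ext p
  rw [Ideal.mem_comap, Ideal.mem_comap, ← hπ, RingHom.mem_ker]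
  refine (Eq.congr_left (DFunLike.congr_fun hcomp p)).trans ?_
  exact (map_eq_zero_iff _ φ.toRingHom.injective).trans Ideal.Quotient.eq_zero_iff_mem

theorem exists_prime_le_maximal_rPow [IsAdicComplete (Ideal.span {t}) R] (ht : t ≠ 0) (n : ℕ)
    (m : Ideal (AdicRing.RPow R (Ideal.span {t}) n)) [m.IsMaximal]
    (hm : algebraMap R (AdicRing.RPow R (Ideal.span {t}) n) t ∈ m) :
    ∃ p : Ideal (AdicRing.RPow R (Ideal.span {t}) n), p.IsPrime ∧ p ≤ m ∧
      algebraMap R (AdicRing.RPow R (Ideal.span {t}) n) t ∉ p ∧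
      ringKrullDim (AdicRing.RPow R (Ideal.span {t}) n ⧸ p) = 1 := by
  classical
  let P := MvPolynomial (Fin n) R
  let J : Ideal P := (Ideal.span {t}).map (MvPolynomial.C : R →+* P)
  have hJfg : J.FG := Ideal.FG.map (f := (MvPolynomial.C : R →+* P)) ⟨{t}, by simp⟩
  let M : Ideal P := m.comap (algebraMap P (AdicCompletion J P))
  have hJspan : ∀ x : AdicCompletion J P, AdicCompletion.evalOneₐ J x = 0 → x ∈ m := by
    intro x hx
    have : x ∈ J.map (algebraMap P (AdicCompletion J P)) := by
      rw [← AdicCompletion.ker_evalOneₐ_eq_map J hJfg]; exact hx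
    refine Ideal.map_le_iff_le_comap.2 ?_ this
    rw [Ideal.map_le_iff_le_comap]
    intro a ha
    obtain ⟨c, rfl⟩ := Ideal.mem_span_singleton'.1 ha
    rw [Ideal.mem_comap, Ideal.mem_comap, map_mul, map_mul]
    exact Ideal.mul_mem_left _ _ hm
  have hsurj : Function.Surjective ((Ideal.Quotient.mk m).comp (algebraMap P (AdicCompletion J P))) := by
    intro y
    obtain ⟨x, rfl⟩ := Ideal.Quotient.mk_surjective y
    obtain ⟨s, hs⟩ := Ideal.Quotient.mk_surjective (AdicCompletion.evalOneₐ J x)
    exact ⟨s, Ideal.Quotient.eq.2 (hJspan _ (by rw [map_sub, AdicCompletion.algebraMap_apply]; simpa [sub_eq_zero] using hs))⟩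
  have hMmax : M.IsMaximal := by
    letI : Field (AdicCompletion J P ⧸ m) := Ideal.Quotient.field m
    have e : RingHom.ker ((Ideal.Quotient.mk m).comp (algebraMap P (AdicCompletion J P))) = M := by
      ext a
      exact Ideal.Quotient.eq_zero_iff_mem
    exact e ▸ RingHom.ker_isMaximal_of_surjective _ hsurj
  obtain ⟨C', _, _, _, _, g, N, hinj, hN, hNg⟩ := exists_lift_of_maximal t ht M hm
  haveI := isAdicComplete_of_finite_domain t C' hinj
  let Ψ : AdicRing.RPow R (Ideal.span {t}) n →ₐ[R] C' := completionLift (Ideal.span {t}) g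
  refine ⟨RingHom.ker Ψ, RingHom.ker_isPrime _, fun x hx => ?_, fun h => ht (hinj ?_), ?_⟩
  · obtain ⟨s, hs⟩ := Ideal.Quotient.mk_surjective (AdicCompletion.evalOneₐ J x)
    have hd : x - algebraMap P (AdicCompletion J P) s ∈ J.map (algebraMap P (AdicCompletion J P)) := by
      rw [← AdicCompletion.ker_evalOneₐ_eq_map J hJfg, RingHom.mem_ker]
      rw [map_sub, AdicCompletion.algebraMap_apply]; simpa [sub_eq_zero] using hs.symm
    have hN' : Ψ (x - algebraMap P (AdicCompletion J P) s) ∈ N := by
      refine (Ideal.map_le_iff_le_comap (f := algebraMap P (AdicCompletion J P))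
        (K := N.comap Ψ)).2 ?_ hd
      intro a ha
      show Ψ (AdicCompletion.of J P a) ∈ N
      rw [show Ψ (AdicCompletion.of J P a) = g a from completionLift_of _ g a]
      have : a ∈ M := by
        refine (Ideal.map_le_iff_le_comap (f := (MvPolynomial.C : R →+* P))).2 ?_ ha
        rw [Ideal.span_le, Set.singleton_subset_iff]
        exact hm
      rwa [← hNg] at this
    rw [map_sub, show Ψ x = 0 from hx, zero_sub, Ideal.neg_mem_iff] at hN'
    have hsM : s ∈ M := by
      rw [← hNg, Ideal.mem_comap, ← completionLift_of (Ideal.span {t}) g s]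
      exact hN'
    have := add_mem (hJspan _ (by
      rw [map_sub, AdicCompletion.algebraMap_apply]; simpa [sub_eq_zero] using hs.symm) :
        x - algebraMap P (AdicCompletion J P) s ∈ m) hsM
    rwa [sub_add_cancel] at this
  · rw [map_zero, ← Ψ.commutes t]
    exact h
  · let Q := AdicRing.RPow R (Ideal.span {t}) n ⧸ RingHom.ker Ψ
    haveI : IsDomain Q := Ideal.Quotient.isDomain_iff_prime _ |>.2 (RingHom.ker_isPrime _)
    let ψ : Q →ₐ[R] C' := Ideal.kerLiftAlg Ψ
    have hψ : Function.Injective ψ := Ideal.kerLiftAlg_injective Ψ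
    haveI : Algebra.IsIntegral R Q := Algebra.IsIntegral.of_injective ψ hψ
    haveI : Ring.KrullDimLE 1 Q := Ring.KrullDimLE.mk₁' fun K hK0 hK =>
      Ideal.isMaximal_of_isIntegral_of_isMaximal_comap (R := R) K
        (Ideal.IsPrime.isMaximal_of_ne_bot (Ideal.IsPrime.comap _)
          fun h => hK0 (Ideal.eq_bot_of_comap_eq_bot h))
    refine le_antisymm (Ring.krullDimLE_iff.1 ‹_›) ?_
    by_contra hlt
    rw [not_le] at hlt
    have h0 : Ring.KrullDimLE 0 Q := Ring.krullDimLE_iff.2 (le_zero_of_lt_one hlt)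
    have hb : (⊥ : Ideal Q).IsMaximal := Ideal.IsPrime.isMaximal' Ideal.isPrime_bot
    have := Ideal.isMaximal_comap_of_isIntegral_of_isMaximal (R := R) (⊥ : Ideal Q)
    have hQ : Function.Injective (algebraMap R Q) := fun a b h => hinj (by
      simpa using congrArg ψ h)
    rw [← RingHom.ker_eq_comap_bot, (RingHom.injective_iff_ker_eq_bot _).1 hQ] at this
    have htop : Ideal.span {t} = ⊤ := by
      by_contra htop
      have h1 := this.eq_of_le htop bot_le
      exact ht (Ideal.span_singleton_eq_bot.1 h1.symm)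
    have hc : IsAdicComplete (⊤ : Ideal R) R := htop ▸ ‹IsAdicComplete (Ideal.span {t}) R›
    have hss : Subsingleton R := hc.subsingleton
    exact ht (Subsingleton.elim _ _)

end Groth.Agent.AdicRingLib
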