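import Mathlib
import Groth.Agent.AdicRingLib.Lift
import Groth.Agent.AdicRingLib.RigPoint

/-!
Topologically finite type domains with small generic fibre over a complete rank one valuation ring are finite.
-/

namespace Groth.Agent.AdicRingLib

universe u

open MvPolynomial

variable {R : Type u} [CommRing R] (t : R)

theorem exists_sub_of_mem (n : ℕ) (x : AdicRing.RPow R (Ideal.span {t}) n) :
    ∃ p : MvPolynomial (Fin n) R,
      x - AdicCompletion.of _ (MvPolynomial (Fin n) R) p ∈
        (Ideal.span {t}).map (algebraMap R (AdicRing.RPow R (Ideal.span {t}) n)) := by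
  let P := MvPolynomial (Fin n) R
  let J : Ideal P := (Ideal.span {t}).map (MvPolynomial.C : R →+* P)
  have hJfg : J.FG := Ideal.FG.map (f := (MvPolynomial.C : R →+* P)) ⟨{t}, by simp⟩
  obtain ⟨s, hs⟩ := Ideal.Quotient.mk_surjective (AdicCompletion.evalOneₐ J x)
  refine ⟨s, ?_⟩
  have hd : x - algebraMap P (AdicCompletion J P) s ∈ J.map (algebraMap P (AdicCompletion J P)) := by
    rw [← AdicCompletion.ker_evalOneₐ_eq_map J hJfg, RingHom.mem_ker]
    rw [map_sub, AdicCompletion.algebraMap_apply]; simpa [sub_eq_zero] using hs.symm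
  rw [Ideal.map_map] at hd
  exact hd

theorem isAdicComplete_rPow (n : ℕ) :
    IsAdicComplete ((Ideal.span {t}).map (algebraMap R (AdicRing.RPow R (Ideal.span {t}) n)))
      (AdicRing.RPow R (Ideal.span {t}) n) := by
  let P := MvPolynomial (Fin n) R
  let J : Ideal P := (Ideal.span {t}).map (MvPolynomial.C : R →+* P)
  have hJfg : J.FG := Ideal.FG.map (f := (MvPolynomial.C : R →+* P)) ⟨{t}, by simp⟩
  have h1 := AdicCompletion.isAdicComplete (I := J) (M := P) hJfg
  have h2 := (IsAdicComplete.map_algebraMap_iff (I := J) (M := AdicCompletion J P)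
    (S := AdicCompletion J P)).2 h1
  rw [Ideal.map_map] at h2
  exact h2

theorem apply_mem_map {S B : Type u} [CommRing S] [Algebra R S] [CommRing B] [Algebra R B] (φ : S →ₐ[R] B)
    {I : Ideal R} {z : S} (hz : z ∈ I.map (algebraMap R S)) : φ z ∈ I.map (algebraMap R B) := by
  have := Ideal.mem_map_of_mem φ.toRingHom hz
  rwa [Ideal.map_map, AlgHom.toRingHom_eq_coe, φ.comp_algebraMap] at this

theorem mem_jacobson_of_surjective {n : ℕ} {B : Type u} [CommRing B] [Algebra R B]
    {φ : AdicRing.RPow R (Ideal.span {t}) n →ₐ[R] B} (hφ : Function.Surjective φ) :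
    algebraMap R B t ∈ Ideal.jacobson (⊥ : Ideal B) := by
  haveI := isAdicComplete_rPow t n
  rw [Ideal.mem_jacobson_bot]
  intro y
  obtain ⟨z, rfl⟩ := hφ y
  have := IsAdicComplete.le_jacobson_bot ((Ideal.span {t}).map (algebraMap R (AdicRing.RPow R (Ideal.span {t}) n)))
    (Ideal.mem_map_of_mem _ (Ideal.mem_span_singleton_self t))
  rw [Ideal.mem_jacobson_bot] at this
  simpa using (this z).map φ

theorem exists_pow_dvd_of_mem_maximalIdeal [IsDomain R] [ValuationRing R] [Ring.KrullDimLE 1 R]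
    {a b : R} (ha : a ≠ 0) (hb : b ∈ IsLocalRing.maximalIdeal R) : ∃ N : ℕ, a ∣ b ^ N := by
  have : b ∈ (Ideal.span {a}).radical := by
    rw [Ideal.radical_eq_sInf, Submodule.mem_sInf]
    rintro P ⟨hP, hPp⟩
    have hne : P ≠ ⊥ := fun h => ha (by simpa [h] using hP (Ideal.mem_span_singleton_self a))
    rwa [IsLocalRing.eq_maximalIdeal (hPp.isMaximal_of_ne_bot hne)]
  obtain ⟨N, hN⟩ := this
  exact ⟨N, Ideal.mem_span_singleton.1 hN⟩

theorem map_maximalIdeal_le_radical [IsDomain R] [ValuationRing R] [Ring.KrullDimLE 1 R] (ht : t ≠ 0)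
    (B : Type u) [CommRing B] [Algebra R B] :
    (IsLocalRing.maximalIdeal R).map (algebraMap R B) ≤ ((Ideal.span {t}).map (algebraMap R B)).radical := by
  rw [Ideal.map_le_iff_le_comap]
  intro a ha
  obtain ⟨N, c, hc⟩ := exists_pow_dvd_of_mem_maximalIdeal ht ha
  exact ⟨N, by rw [← map_pow, hc, mul_comm]; exact Ideal.mem_map_of_mem _ (Ideal.mul_mem_left _ _ (Ideal.mem_span_singleton_self t))⟩

/-- Integrality of the coordinates modulo `t` gives finiteness. -/
theorem finite_of_integral_mod {n : ℕ} (S : Type u) [CommRing S] [Algebra R S]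
    [IsAdicComplete ((Ideal.span {t}).map (algebraMap R S)) S]
    {B : Type u} [CommRing B] [Algebra R B] [Algebra S B] [IsScalarTower R S B]
    [IsHausdorff ((Ideal.span {t}).map (algebraMap R B)) B]
    (φ : AdicRing.RPow R (Ideal.span {t}) n →ₐ[R] B) (hφ : Function.Surjective φ)
    (hint : ∀ i : Fin n, ∃ Q : Polynomial S, Q.Monic ∧
      Polynomial.aeval (φ (AdicCompletion.of _ (MvPolynomial (Fin n) R) (MvPolynomial.X i))) Q ∈
        ((Ideal.span {t}).map (algebraMap R B)).radical) :
    Module.Finite S B := by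
  classical
  set J := (Ideal.span {t}).map (algebraMap R S) with hJ
  set T := (Ideal.span {t}).map (algebraMap R B) with hT
  have hJT : J.map (algebraMap S B) = T := by
    rw [hJ, hT, Ideal.map_map, ← IsScalarTower.algebraMap_eq]
  let g : MvPolynomial (Fin n) R →ₐ[R] B := φ.comp (IsScalarTower.toAlgHom R _ _)
  let x : Fin n → B ⧸ T := fun i => Ideal.Quotient.mk T (g (MvPolynomial.X i))
  have hint' : ∀ i, IsIntegral S (x i) := fun i => by
    obtain ⟨Q, hQm, N, hN⟩ := hint i
    refine ⟨Q ^ N, hQm.pow N, ?_⟩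
    rw [← Polynomial.aeval_def]
    show Polynomial.aeval (Ideal.Quotient.mkₐ S T (g (MvPolynomial.X i))) (Q ^ N) = 0
    rw [Polynomial.aeval_algHom_apply, map_pow (Polynomial.aeval (R := S) (g (MvPolynomial.X i)))]
    exact Ideal.Quotient.eq_zero_iff_mem.2 hN
  have hfin : Module.Finite S (Algebra.adjoin S (Set.range x)) :=
    Algebra.finite_adjoin_of_finite_of_isIntegral (Set.finite_range x) (by rintro _ ⟨i, rfl⟩; exact hint' i)
  have htop : Algebra.adjoin S (Set.range x) = ⊤ := by
    refine top_unique fun y _ => ?_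
    obtain ⟨b, rfl⟩ := Ideal.Quotient.mk_surjective y
    obtain ⟨z, rfl⟩ := hφ b
    obtain ⟨p, hp⟩ := exists_sub_of_mem t n z
    have hz : Ideal.Quotient.mk T (φ z) = Ideal.Quotient.mk T (g p) := by
      refine Ideal.Quotient.eq.2 ?_
      show φ z - φ (AdicCompletion.of _ _ p) ∈ T
      rw [← map_sub]
      exact apply_mem_map φ hp
    rw [hz]
    refine (Algebra.adjoin_le (S := (Algebra.adjoin S (Set.range x)).restrictScalars R)
      (s := Set.range x) Algebra.subset_adjoin) ?_
    rw [Algebra.adjoin_range_eq_range_aeval]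
    exact ⟨p, DFunLike.congr_fun (MvPolynomial.algHom_ext (f := MvPolynomial.aeval x)
      (g := (Ideal.Quotient.mkₐ R T).comp g) fun i => by simp [x]) p⟩
  haveI : Module.Finite S (B ⧸ T) := by
    have := Module.Finite.equiv (R := S) ((Subalgebra.equivOfEq _ _ htop).trans Subalgebra.topEquiv).toLinearEquiv
    exact this
  obtain ⟨s, w, hw⟩ := Module.Finite.exists_fin (R := S) (M := B ⧸ T)
  choose w' hw' using fun i => Ideal.Quotient.mk_surjective (I := T) (w i)
  haveI : IsAdicComplete J (Fin s → S) := isAdicComplete_of_equiv_pi J (LinearEquiv.refl S _)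
  haveI : IsHausdorff J B := by
    rw [← IsHausdorff.map_algebraMap_iff (S := B), hJT]
    infer_instance
  refine Module.Finite.of_surjective (Fintype.linearCombination S w')
    (surjective_of_mkQ_comp_surjective (I := J) ?_)
  intro y
  obtain ⟨b, rfl⟩ := Submodule.mkQ_surjective _ y
  have hb : Ideal.Quotient.mk T b ∈ Submodule.span S (Set.range w) := hw ▸ Submodule.mem_top
  obtain ⟨c, hc⟩ := (Submodule.mem_span_range_iff_exists_fun S).1 hb
  refine ⟨c, ?_⟩
  rw [LinearMap.comp_apply, Fintype.linearCombination_apply, Submodule.mkQ_apply, Submodule.mkQ_apply,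
    Submodule.Quotient.eq, Ideal.smul_top_eq_map, hJT]
  show _ - b ∈ T
  rw [← Ideal.Quotient.eq, ← hc, map_sum]
  refine Finset.sum_congr rfl fun i _ => ?_
  rw [← hw']
  rfl

section Domain

variable [IsDomain R] [ValuationRing R] [Ring.KrullDimLE 1 R] {B : Type u} [CommRing B] [IsDomain B] [Algebra R B]

theorem mem_maximalIdeal [IsAdicComplete (Ideal.span {t}) R] : t ∈ IsLocalRing.maximalIdeal R := by
  have := IsAdicComplete.le_jacobson_bot (Ideal.span {t}) (Ideal.mem_span_singleton_self t)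
  rwa [IsLocalRing.jacobson_eq_maximalIdeal ⊥ bot_ne_top] at this

theorem algebraMap_injective_of_ne_zero [IsAdicComplete (Ideal.span {t}) R] (htB : algebraMap R B t ≠ 0) :
    Function.Injective (algebraMap R B) := by
  rw [injective_iff_map_eq_zero]
  intro a ha
  by_contra ha0
  obtain ⟨N, c, hc⟩ := exists_pow_dvd_of_mem_maximalIdeal ha0 (mem_maximalIdeal t)
  have : algebraMap R B t ^ N = 0 := by rw [← map_pow, hc, map_mul, ha, zero_mul]
  exact htB (eq_zero_of_pow_eq_zero this)

omit [IsDomain R] [ValuationRing R] [Ring.KrullDimLE 1 R] in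
theorem isHausdorff_of_radical (htB : algebraMap R B t ≠ 0) (hj : algebraMap R B t ∈ Ideal.jacobson (⊥ : Ideal B))
    (hrad : ∀ b : B, b ≠ 0 → algebraMap R B t ∈ (Ideal.span {b}).radical) :
    IsHausdorff ((Ideal.span {t}).map (algebraMap R B)) B := by
  refine ⟨fun b hb => by_contra fun hb0 => ?_⟩
  obtain ⟨K, hK⟩ := hrad b hb0
  obtain ⟨d, hd⟩ := Ideal.mem_span_singleton'.1 hK
  have hb' := SModEq.zero.1 (hb (K + 1))
  rw [smul_eq_mul, Ideal.mul_top, Ideal.map_span, Set.image_singleton, Ideal.span_singleton_pow,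
    Ideal.mem_span_singleton'] at hb'
  obtain ⟨c, rfl⟩ := hb'
  have h1 : algebraMap R B t ^ K * (d * c * algebraMap R B t - 1) = 0 := by
    rw [pow_succ] at hd
    linear_combination hd
  have h2 := (mul_eq_zero.1 h1).resolve_left (pow_ne_zero _ htB)
  have h3 : IsUnit (algebraMap R B t) := IsUnit.of_mul_eq_one_right (d * c) (sub_eq_zero.1 h2)
  obtain ⟨M, hM⟩ := Ideal.exists_maximal B
  rw [Ideal.jacobson, Submodule.mem_sInf] at hj
  exact hM.ne_top (Ideal.eq_top_of_isUnit_mem _ (hj M ⟨bot_le, hM⟩) h3)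

theorem finite_of_isHausdorff_of_finite [IsAdicComplete (Ideal.span {t}) R] (ht : t ≠ 0) {n : ℕ}
    [IsHausdorff ((Ideal.span {t}).map (algebraMap R B)) B]
    [Module.Finite R (B ⧸ (IsLocalRing.maximalIdeal R).map (algebraMap R B))]
    (φ : AdicRing.RPow R (Ideal.span {t}) n →ₐ[R] B) (hφ : Function.Surjective φ) :
    Module.Finite R B := by
  haveI : IsAdicComplete ((Ideal.span {t}).map (algebraMap R R)) R := by
    rw [Algebra.algebraMap_self, Ideal.map_id]
    infer_instance
  refine finite_of_integral_mod t R φ hφ fun i => ?_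
  obtain ⟨Q, hQ, hQ0⟩ := IsIntegral.of_finite R (Ideal.Quotient.mk
    ((IsLocalRing.maximalIdeal R).map (algebraMap R B))
      (φ (AdicCompletion.of _ (MvPolynomial (Fin n) R) (MvPolynomial.X i))))
  refine ⟨Q, hQ, map_maximalIdeal_le_radical t ht B ?_⟩
  rw [← Polynomial.aeval_def, ← Ideal.Quotient.mkₐ_eq_mk R, Polynomial.aeval_algHom_apply] at hQ0
  exact Ideal.Quotient.eq_zero_iff_mem.1 hQ0

theorem finite_of_krullDimLE_one [IsAdicComplete (Ideal.span {t}) R] [Ring.KrullDimLE 1 B] (ht : t ≠ 0)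
    (htB : algebraMap R B t ≠ 0) {n : ℕ}
    (φ : AdicRing.RPow R (Ideal.span {t}) n →ₐ[R] B) (hφ : Function.Surjective φ) :
    Module.Finite R B := by
  have hj := mem_jacobson_of_surjective t hφ
  haveI : IsHausdorff ((Ideal.span {t}).map (algebraMap R B)) B := by
    refine isHausdorff_of_radical t htB hj fun b hb0 => ?_
    rw [Ideal.radical_eq_sInf, Submodule.mem_sInf]
    rintro P ⟨hP, hPp⟩
    have hne : P ≠ ⊥ := fun h => hb0 (by simpa [h] using hP (Ideal.mem_span_singleton_self b))
    have hj' := hj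
    rw [Ideal.jacobson, Submodule.mem_sInf] at hj'
    exact hj' P ⟨bot_le, hPp.isMaximal_of_ne_bot hne⟩
  set m := (IsLocalRing.maximalIdeal R).map (algebraMap R B) with hm
  let ψ : MvPolynomial (Fin n) R →ₐ[R] B ⧸ m :=
    ((Ideal.Quotient.mkₐ R m).comp φ).comp (IsScalarTower.toAlgHom R _ _)
  have hψ : Function.Surjective ψ := fun y => by
    obtain ⟨b, rfl⟩ := Ideal.Quotient.mk_surjective y
    obtain ⟨z, rfl⟩ := hφ b
    obtain ⟨p, hp⟩ := exists_sub_of_mem t n z
    refine ⟨p, (Ideal.Quotient.eq.2 ?_).symm⟩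
    show φ z - φ (AdicCompletion.of _ _ p) ∈ m
    rw [← map_sub]
    refine Ideal.map_mono ?_ (apply_mem_map φ hp)
    rw [Ideal.span_le, Set.singleton_subset_iff]
    exact mem_maximalIdeal t
  haveI : Algebra.FiniteType R (B ⧸ m) := Algebra.FiniteType.iff_quotient_mvPolynomial''.2 ⟨n, ψ, hψ⟩
  letI : Field (R ⧸ IsLocalRing.maximalIdeal R) := Ideal.Quotient.field _
  haveI : Algebra.FiniteType (R ⧸ IsLocalRing.maximalIdeal R) (B ⧸ m) :=
    Algebra.FiniteType.of_restrictScalars_finiteType R _ _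
  haveI : IsNoetherianRing (B ⧸ m) := Algebra.FiniteType.isNoetherianRing (R ⧸ IsLocalRing.maximalIdeal R) _
  haveI : Ring.KrullDimLE 0 (B ⧸ m) := by
    rw [Ring.krullDimLE_zero_iff]
    intro P hP
    have hne : P.comap (Ideal.Quotient.mk m) ≠ ⊥ := fun h => htB <| by
      have : algebraMap R B t ∈ P.comap (Ideal.Quotient.mk m) := by
        rw [Ideal.mem_comap]
        refine (congrArg (· ∈ P) (Ideal.Quotient.eq_zero_iff_mem.2 ?_)).mpr P.zero_mem
        exact Ideal.mem_map_of_mem _ (mem_maximalIdeal t)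
      rwa [h, Ideal.mem_bot] at this
    have := (Ideal.IsPrime.comap (Ideal.Quotient.mk m) (K := P)).isMaximal_of_ne_bot hne
    exact Ideal.map_comap_of_surjective _ Ideal.Quotient.mk_surjective P ▸
      (Ideal.map_eq_top_or_isMaximal_of_surjective _ Ideal.Quotient.mk_surjective this).resolve_left
        (by rw [Ideal.map_comap_of_surjective _ Ideal.Quotient.mk_surjective]; exact hP.ne_top)
  haveI : IsArtinianRing (B ⧸ m) := IsNoetherianRing.isArtinianRing_of_krullDimLE_zero
  haveI : Module.Finite (R ⧸ IsLocalRing.maximalIdeal R) (B ⧸ m) := Module.finite_of_isArtinianRing _ _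
  haveI : Module.Finite R (B ⧸ m) := Module.Finite.trans (R ⧸ IsLocalRing.maximalIdeal R) _
  exact finite_of_isHausdorff_of_finite t ht φ hφ

end Domain

end Groth.Agent.AdicRingLib
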