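import Mathlib
import Groth.Agent.AdicRingLib.RigFinite

/-!
Finite domains over a complete rank one valuation ring: locality, valuation ring normalization.
-/

namespace Groth.Agent.AdicRingLib

universe u

variable {R : Type u} [CommRing R] [IsDomain R] [ValuationRing R] [Ring.KrullDimLE 1 R] (t : R)

theorem isLocalRing_of_finite_domain [IsAdicComplete (Ideal.span {t}) R] (ht : t ≠ 0)
    (C : Type u) [CommRing C] [IsDomain C] [Algebra R C] [Module.Finite R C]
    (hinj : Function.Injective (algebraMap R C)) : IsLocalRing C := by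
  classical
  haveI := isAdicComplete_of_finite_domain t C hinj
  set I := (Ideal.span {t}).map (algebraMap R C) with hI
  set m := (IsLocalRing.maximalIdeal R).map (algebraMap R C) with hm
  have hIm : I ≤ m := Ideal.map_mono (by
    rw [Ideal.span_le, Set.singleton_subset_iff]
    exact mem_maximalIdeal t)
  obtain ⟨M₁, hM₁⟩ := Ideal.exists_maximal C
  refine IsLocalRing.of_unique_max_ideal ⟨M₁, hM₁, fun M₂ hM₂ => ?_⟩
  by_contra hne
  obtain ⟨b, hb₁, hb₂⟩ : ∃ b, b ∈ M₁ ∧ b ∉ M₂ := by
    by_contra h
    push_neg at h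
    exact hne (hM₁.eq_of_le hM₂.ne_top h).symm
  have hmM : ∀ M : Ideal C, M.IsMaximal → m ≤ M := fun M hM => by
    rw [hm, Ideal.map_le_iff_le_comap]
    haveI := Ideal.isMaximal_comap_of_isIntegral_of_isMaximal (R := R) M
    rw [IsLocalRing.eq_maximalIdeal this]
  letI : Field (R ⧸ IsLocalRing.maximalIdeal R) := Ideal.Quotient.field _
  haveI : Module.Finite (R ⧸ IsLocalRing.maximalIdeal R) (C ⧸ m) := Module.Finite.of_restrictScalars_finite R _ _
  haveI : IsArtinianRing (C ⧸ m) := isArtinian_of_tower (R ⧸ IsLocalRing.maximalIdeal R)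
    (inferInstance : IsArtinian (R ⧸ IsLocalRing.maximalIdeal R) (C ⧸ m))
  obtain ⟨k, c, hc⟩ := IsArtinian.exists_pow_succ_smul_dvd (Ideal.Quotient.mk m b) (1 : C ⧸ m)
  simp only [smul_eq_mul, mul_one] at hc
  set β := Ideal.Quotient.mk m b with hβ
  have hc' : ∀ j, β ^ k * (β * c) ^ j = β ^ k := fun j => by
    induction j with
    | zero => simp
    | succ j ih =>
      rw [pow_succ, ← mul_assoc, ih]
      calc β ^ k * (β * c) = β ^ (k + 1) * c := by ring
        _ = β ^ k := hc
  have hidem : IsIdempotentElem ((β * c) ^ (k + 1)) := by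
    show _ * _ = _
    calc (β * c) ^ (k + 1) * (β * c) ^ (k + 1)
        = β * c ^ (k + 1) * (β ^ k * (β * c) ^ (k + 1)) := by ring
      _ = (β * c) ^ (k + 1) := by rw [hc']; ring
  have hnil : ∀ z ∈ RingHom.ker (Ideal.Quotient.factor hIm), IsNilpotent z := by
    intro z hz
    obtain ⟨z, rfl⟩ := Ideal.Quotient.mk_surjective z
    rw [RingHom.mem_ker, Ideal.Quotient.factor_mk, Ideal.Quotient.eq_zero_iff_mem] at hz
    obtain ⟨N, hN⟩ := map_maximalIdeal_le_radical t ht C hz
    exact ⟨N, by rw [← map_pow]; exact Ideal.Quotient.eq_zero_iff_mem.2 hN⟩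
  obtain ⟨e', he', he'β⟩ := exists_isIdempotentElem_eq_of_ker_isNilpotent (Ideal.Quotient.factor hIm) hnil
    ((β * c) ^ (k + 1)) (by
      rw [RingHom.mem_range]
      obtain ⟨y, hy⟩ := Ideal.Quotient.mk_surjective ((β * c) ^ (k + 1))
      exact ⟨Ideal.Quotient.mk I y, by rw [Ideal.Quotient.factor_mk, hy]⟩) hidem
  obtain ⟨e₀, rfl⟩ := Ideal.Quotient.mk_surjective e'
  rw [Ideal.Quotient.factor_mk] at he'β
  have h1 : e₀ ∈ M₁ := by
    obtain ⟨c₀, rfl⟩ := Ideal.Quotient.mk_surjective c
    rw [hβ, ← map_mul, ← map_pow, Ideal.Quotient.eq] at he'β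
    exact (Submodule.sub_mem_iff_left M₁ (Ideal.pow_mem_of_mem _ (Ideal.mul_mem_right _ _ hb₁) _ k.succ_pos)).1
      (hmM M₁ hM₁ he'β)
  have h2 : e₀ ∉ M₂ := fun h => by
    have h' : β ^ k * Ideal.Quotient.mk m e₀ = β ^ k := by rw [he'β, hc']
    rw [hβ, ← map_pow, ← map_mul, Ideal.Quotient.eq] at h'
    exact hb₂ (hM₂.isPrime.mem_of_pow_mem k
      ((Submodule.sub_mem_iff_right M₂ (Ideal.mul_mem_left _ _ h)).1 (hmM M₂ hM₂ h')))
  have he₀ : e₀ * e₀ - e₀ ∈ I := by
    rw [← Ideal.Quotient.eq_zero_iff_mem, map_sub, map_mul, sub_eq_zero]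
    exact he'
  obtain ⟨r, hr, hr'⟩ := HenselianRing.is_henselian (R := C) (I := I) (Polynomial.X ^ 2 - Polynomial.X)
    (Polynomial.monic_X_pow_sub (by simp)) e₀ (by simpa [pow_two] using he₀) (by
      refine IsUnit.of_mul_eq_one (Ideal.Quotient.mk I (2 * e₀ - 1)) ?_
      simp only [Polynomial.derivative_sub, Polynomial.derivative_X_pow, Polynomial.derivative_X,
        Polynomial.eval_sub, Polynomial.eval_mul, Polynomial.eval_pow, Polynomial.eval_X, Polynomial.eval_one,
        map_sub, map_mul, map_one]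
      have e : Ideal.Quotient.mk I e₀ * Ideal.Quotient.mk I e₀ = Ideal.Quotient.mk I e₀ := he'
      simp [map_ofNat]
      linear_combination 4 * e)
  rw [Polynomial.IsRoot, Polynomial.eval_sub, Polynomial.eval_pow, Polynomial.eval_X, pow_two,
    ← mul_sub_one, mul_eq_zero, sub_eq_zero] at hr
  rcases hr with rfl | rfl
  · rw [zero_sub, Ideal.neg_mem_iff] at hr'
    exact h2 (hmM M₂ hM₂ (hIm hr'))
  · exact hM₁.ne_top ((Ideal.eq_top_iff_one _).2
      ((Submodule.sub_mem_iff_left M₁ h1).1 (hmM M₁ hM₁ (hIm hr'))))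

/-- Kaplansky: in a local ring `S` integrally closed in a field `L`, a root of a polynomial with a unit
coefficient is in `S` or is the inverse of an element of `S`. -/
theorem mem_or_inv_mem_of_sum_eq_zero {S L : Type u} [CommRing S] [IsLocalRing S] [Field L] [Algebra S L]
    (hinj : Function.Injective (algebraMap S L))
    (hcl : ∀ z : L, IsIntegral S z → z ∈ (algebraMap S L).range) (x : L) :
    ∀ (d : ℕ) (c : ℕ → S), ∑ i ∈ Finset.range (d + 1), algebraMap S L (c i) * x ^ i = 0 →
      (∃ i ≤ d, IsUnit (c i)) → x ∈ (algebraMap S L).range ∨ x⁻¹ ∈ (algebraMap S L).range := by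
  intro d
  induction d with
  | zero =>
    rintro c h ⟨i, hi, hu⟩
    obtain rfl := Nat.le_zero.1 hi
    rw [Finset.sum_range_one, pow_zero, mul_one] at h
    exact absurd ((map_eq_zero_iff _ hinj).1 h ▸ hu) not_isUnit_zero
  | succ d ih =>
    intro c h hu
    let p : Polynomial S := ∑ i ∈ Finset.range (d + 1 + 1), Polynomial.C (c i) * Polynomial.X ^ i
    have hp : Polynomial.aeval x p = 0 := by simpa [p] using h
    have hint : IsIntegral S (c (d + 1) • x) := by
      by_cases h0 : c (d + 1) = 0
      · rw [h0, zero_smul]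
        exact isIntegral_zero
      have hcoeff : p.coeff (d + 1) = c (d + 1) := by
        simp [p, Polynomial.finsetSum_coeff, Polynomial.coeff_X_pow]
      have hdeg : p.natDegree = d + 1 := by
        refine le_antisymm (Polynomial.natDegree_sum_le_of_forall_le _ _ fun i hi => ?_)
          (Polynomial.le_natDegree_of_ne_zero (hcoeff ▸ h0))
        refine (Polynomial.natDegree_C_mul_X_pow_le _ _).trans ?_
        exact Nat.lt_succ_iff.1 (Finset.mem_range.1 hi)
      rw [← hcoeff, ← hdeg]
      exact isIntegral_leadingCoeff_smul p x hp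
    obtain ⟨b, hb⟩ := hcl _ hint
    rw [Algebra.smul_def] at hb
    let c' : ℕ → S := fun i => if i = d then c d + b else c i
    have h' : ∑ i ∈ Finset.range (d + 1), algebraMap S L (c' i) * x ^ i = 0 := by
      rw [Finset.sum_range_succ, Finset.sum_range_succ] at h
      rw [Finset.sum_range_succ, ← h]
      have : ∑ i ∈ Finset.range d, algebraMap S L (c' i) * x ^ i =
          ∑ i ∈ Finset.range d, algebraMap S L (c i) * x ^ i :=
        Finset.sum_congr rfl fun i hi => by simp [c', (Finset.mem_range.1 hi).ne]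
      rw [this]
      simp only [c', if_pos, map_add]
      rw [hb, pow_succ]
      ring
    by_cases hd : IsUnit (c (d + 1))
    · left
      obtain ⟨w, hw⟩ := hd
      refine ⟨↑w⁻¹ * b, ?_⟩
      rw [map_mul, hb, ← mul_assoc, ← map_mul, ← hw, Units.inv_mul, map_one, one_mul]
    · obtain ⟨i, hi, hu⟩ := hu
      rcases Nat.lt_or_eq_of_le hi with hi | rfl
      swap; · exact absurd hu hd
      rcases Nat.lt_or_eq_of_le (Nat.lt_succ_iff.1 hi) with hid | rfl
      · exact ih c' h' ⟨i, hid.le, by simpa [c', hid.ne] using hu⟩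
      · rcases IsLocalRing.isUnit_or_isUnit_of_isUnit_add (a := c i + b) (b := -b) (by simpa using hu) with hcb | hbu
        · exact ih c' h' ⟨i, le_rfl, by simpa [c'] using hcb⟩
        · right
          obtain ⟨w, hw⟩ := hbu
          refine ⟨-(↑w⁻¹ * c (i + 1)), eq_inv_of_mul_eq_one_left ?_⟩
          rw [map_neg, map_mul, neg_mul, mul_assoc, ← hb, ← map_mul, ← map_neg]
          rw [← mul_neg, ← hw, Units.inv_mul, map_one]

theorem valuationRing_integralClosure_of_finite [IsAdicComplete (Ideal.span {t}) R] (ht : t ≠ 0)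
    (B : Type u) [CommRing B] [IsDomain B] [Algebra R B] [Module.Finite R B]
    (hinj : Function.Injective (algebraMap R B)) :
    ValuationRing (integralClosure B (FractionRing B)) := by
  classical
  let L := FractionRing B
  let S := integralClosure B L
  have hinjL : Function.Injective (algebraMap R L) := by
    rw [IsScalarTower.algebraMap_eq R B L]
    exact (IsFractionRing.injective B L).comp hinj
  have hintS : ∀ z : S, IsIntegral R (z : L) := fun z => isIntegral_trans (z : L) z.2
  haveI : IsLocalRing S := by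
    refine { isUnit_or_isUnit_of_add_one := fun {a b} hab => ?_ }
    let C : Subalgebra R L := Algebra.adjoin R {(a : L), (b : L)}
    haveI : Module.Finite R C := Algebra.finite_adjoin_of_finite_of_isIntegral (Set.toFinite _)
      (by rintro x (rfl | rfl) <;> exact hintS _)
    haveI := isLocalRing_of_finite_domain t ht C fun x y h => hinjL (congrArg Subtype.val h)
    have hCS : ∀ z ∈ C, z ∈ S := fun z hz =>
      (Algebra.adjoin_le (S := S.restrictScalars R) (by rintro x (rfl | rfl) <;> exact (Subtype.mem _)) hz)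
    let ι : C →+* S := { toFun := fun z => ⟨z, hCS _ z.2⟩
                         map_one' := rfl, map_mul' := fun _ _ => rfl, map_zero' := rfl, map_add' := fun _ _ => rfl }
    have key : (⟨a, Algebra.subset_adjoin (by simp)⟩ : C) + ⟨b, Algebra.subset_adjoin (by simp)⟩ = 1 :=
      Subtype.ext (congrArg (fun z : S => (z : L)) hab : (a : L) + (b : L) = 1)
    exact (IsLocalRing.isUnit_or_isUnit_of_isUnit_add (key ▸ isUnit_one)).imp
      (fun h => by simpa [ι] using h.map ι) (fun h => by simpa [ι] using h.map ι)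
  have hcl : ∀ z : L, IsIntegral S z → z ∈ (algebraMap S L).range := fun z hz =>
    ⟨⟨z, isIntegral_trans (R := B) (A := S) z hz⟩, rfl⟩
  refine (ValuationRing.iff_isInteger_or_isInteger S L).2 fun x => ?_
  haveI : Algebra.IsAlgebraic R L := by
    refine ⟨fun x => ?_⟩
    obtain ⟨a, s, -, rfl⟩ := IsFractionRing.div_surjective B x
    have h : ∀ z : B, IsAlgebraic R (algebraMap B L z) := fun z =>
      ((IsIntegral.of_finite R z).map (IsScalarTower.toAlgHom R B L)).isAlgebraic
    rw [div_eq_mul_inv]
    exact (h a).mul (h s).inv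
  obtain ⟨P, hP0, hP⟩ := Algebra.IsAlgebraic.isAlgebraic (R := R) x
  have hne : P.support.Nonempty := Polynomial.support_nonempty.2 hP0
  obtain ⟨i₀, hi₀, hmax⟩ : ∃ i₀ ∈ P.support, ∀ i ∈ P.support, P.coeff i₀ ∣ P.coeff i := by
    revert hne
    generalize P.support = s
    intro hne
    induction hne using Finset.Nonempty.cons_induction with
    | singleton a => exact ⟨a, Finset.mem_singleton_self a, fun i hi => by simp [Finset.mem_singleton.1 hi]⟩
    | cons a s ha hs ih =>
      obtain ⟨j, hj, hj'⟩ := ih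
      rcases ValuationRing.dvd_total (P.coeff a) (P.coeff j) with h | h
      · exact ⟨a, Finset.mem_cons_self a s, fun i hi => (Finset.mem_cons.1 hi).elim (by rintro rfl; rfl)
          fun hi => h.trans (hj' i hi)⟩
      · exact ⟨j, Finset.mem_cons_of_mem hj, fun i hi => (Finset.mem_cons.1 hi).elim (by rintro rfl; exact h)
          (hj' i)⟩
  have hall : ∀ i, ∃ r, P.coeff i = P.coeff i₀ * r := fun i => by
    by_cases hi : i ∈ P.support
    · exact hmax i hi
    · exact ⟨0, by simpa using hi⟩
  choose r hr using hall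
  have hc0 : P.coeff i₀ ≠ 0 := Polynomial.mem_support_iff.1 hi₀
  have hr0 : r i₀ = 1 := mul_left_cancel₀ hc0 ((hr i₀).symm.trans (mul_one _).symm)
  refine (mem_or_inv_mem_of_sum_eq_zero (S := S) Subtype.val_injective hcl x P.natDegree
    (fun i => algebraMap R S (r i)) ?_ ⟨i₀, Polynomial.le_natDegree_of_mem_supp i₀ hi₀, by simp [hr0]⟩).imp
      (fun h => ?_) (fun h => ?_)
  · refine mul_left_cancel₀ ((map_ne_zero_iff _ hinjL).2 hc0) ?_
    rw [mul_zero, Finset.mul_sum, ← hP, Polynomial.aeval_eq_sum_range]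
    refine Finset.sum_congr rfl fun i _ => ?_
    rw [← IsScalarTower.algebraMap_apply R S L, ← mul_assoc, ← map_mul, ← hr, Algebra.smul_def]
  all_goals exact h

end Groth.Agent.AdicRingLib
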