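import Mathlib
import Groth.Agent.AdicRingLib.RigDomain

/-!
Images of rig points and admissibility of finite domains.
-/

namespace Groth.Agent.AdicRingLib

universe u

open MvPolynomial

variable {R : Type u} [CommRing R] [IsDomain R] [ValuationRing R] [Ring.KrullDimLE 1 R] (t : R)
  [IsAdicComplete (Ideal.span {t}) R]

theorem finite_range {n : ℕ} {A : Type u} [CommRing A] [Algebra R A]
    (ψ : AdicRing.RPow R (Ideal.span {t}) n →ₐ[R] A) (hψ : Function.Surjective ψ)
    (B : Type u) [CommRing B] [IsDomain B] [Algebra R B] [Module.Finite R B]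
    (hinj : Function.Injective (algebraMap R B)) (f : A →ₐ[R] B) : Module.Finite R f.range := by
  classical
  haveI := isAdicComplete_of_finite_domain t B hinj
  let g : MvPolynomial (Fin n) R →ₐ[R] B := (f.comp ψ).comp (IsScalarTower.toAlgHom R _ _)
  let a : Fin n → B := fun i => g (X i)
  let C₀ : Subalgebra R B := Algebra.adjoin R (Set.range a)
  haveI : Module.Finite R C₀ := Algebra.finite_adjoin_of_finite_of_isIntegral (Set.finite_range a)
    fun x _ => IsIntegral.of_finite R x
  haveI := isAdicComplete_of_finite_domain t C₀ fun x y h => hinj (congrArg Subtype.val h)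
  let g₀ : MvPolynomial (Fin n) R →ₐ[R] C₀ := aeval fun i => ⟨a i, Algebra.subset_adjoin ⟨i, rfl⟩⟩
  let Φ : AdicRing.RPow R (Ideal.span {t}) n →ₐ[R] C₀ := completionLift (Ideal.span {t}) g₀
  have hg : C₀.val.comp g₀ = g := MvPolynomial.algHom_ext fun i => by simp [g₀, a]
  have key : C₀.val.comp Φ = f.comp ψ :=
    completion_algHom_ext (Ideal.span {t}) (Submodule.fg_span_singleton t) fun p => by
      show (C₀.val (Φ (AdicCompletion.of _ _ p))) = g p
      rw [← hg, show Φ (AdicCompletion.of _ _ p) = g₀ p from completionLift_of _ g₀ p]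
      rfl
  have heq : f.range = C₀ := by
    refine le_antisymm ?_ (Algebra.adjoin_le ?_)
    · rintro _ ⟨y, rfl⟩
      obtain ⟨z, rfl⟩ := hψ y
      have := DFunLike.congr_fun key z
      show f (ψ z) ∈ C₀
      rw [show f (ψ z) = C₀.val (Φ z) from this.symm]
      exact (Φ z).2
    · rintro _ ⟨i, rfl⟩
      exact ⟨_, rfl⟩
  exact Module.Finite.equiv (Subalgebra.equivOfEq _ _ heq.symm).toLinearEquiv

theorem admissible_of_finite_domain (C : Type u) [CommRing C] [IsDomain C] [Algebra R C] [Module.Finite R C]
    (ht : t ≠ 0) (hinj : Function.Injective (algebraMap R C)) :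
    AdicRing.Admissible R (Ideal.span {t}) C := by
  classical
  haveI := isAdicComplete_of_finite_domain t C hinj
  have htC : algebraMap R C t ≠ 0 := (map_ne_zero_iff _ hinj).2 ht
  refine ⟨?_, fun x n h => ?_⟩
  swap
  · have := h (t ^ n) (Ideal.pow_mem_pow (Ideal.mem_span_singleton_self t) n)
    rw [Algebra.smul_def, map_pow] at this
    exact (mul_eq_zero.1 this).resolve_left (pow_ne_zero _ htC)
  have : FaithfulSMul R C := (faithfulSMul_iff_algebraMap_injective R C).2 hinj
  have : Module.IsTorsionFree R C := Module.IsTorsionFree.trans_faithfulSMul R C C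
  have : Module.Flat R C := Module.Flat.flat_iff_torsion_eq_bot_of_isBezout.2
    (Submodule.isTorsionFree_iff_torsion_eq_bot.1 inferInstance)
  have : Module.Free R C := Module.free_of_flat_of_isLocalRing
  haveI : Module.FinitePresentation R C := Module.finitePresentation_of_projective R C
  haveI : Algebra.FinitePresentation R C := inferInstance
  obtain ⟨n, w, hw⟩ := Module.Finite.exists_fin (R := R) (M := C)
  let g : MvPolynomial (Fin n) R →ₐ[R] C := aeval w
  have hg : Function.Surjective g := fun y => by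
    have hy : y ∈ Submodule.span R (Set.range w) := hw ▸ Submodule.mem_top
    obtain ⟨c, rfl⟩ := (Submodule.mem_span_range_iff_exists_fun R).1 hy
    exact ⟨∑ i, c i • X i, by simp [g]⟩
  obtain ⟨σ, hσ⟩ := Module.projective_lifting_property g.toLinearMap LinearMap.id hg
  have hσ' : ∀ y, g (σ y) = y := fun y => DFunLike.congr_fun hσ y
  let A := AdicRing.RPow R (Ideal.span {t}) n
  let Φ : A →ₐ[R] C := completionLift (Ideal.span {t}) g
  have hof : ∀ p, Φ (AdicCompletion.of _ _ p) = g p := completionLift_of _ g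
  obtain ⟨s, G, hG⟩ := Submodule.fg_iff_exists_fin_generating_family.1
    (Algebra.FinitePresentation.ker_fG_of_surjective g hg)
  let G' : Fin s → A := fun i => algebraMap (MvPolynomial (Fin n) R) A (G i)
  have hG0 : ∀ i, Φ (G' i) = 0 := fun i => (hof (G i)).trans
    (show G i ∈ RingHom.ker g.toRingHom from hG ▸ Submodule.subset_span ⟨i, rfl⟩)
  refine ⟨n, Φ, fun y => ⟨_, (hof (σ y)).trans (hσ' y)⟩, ?_⟩
  let N : Ideal A := RingHom.ker Φ.toRingHom
  let G'' : Fin s → N := fun i => ⟨G' i, hG0 i⟩
  set J := (Ideal.span {t}).map (algebraMap R A) with hJ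
  haveI hA : IsAdicComplete J A := isAdicComplete_rPow t n
  haveI : IsAdicComplete J (Fin s → A) := isAdicComplete_of_equiv_pi J (LinearEquiv.refl A _)
  haveI : IsHausdorff J N := ⟨fun x hx => Subtype.ext (IsHausdorff.haus (I := J) inferInstance (x : A) fun k => by
    have h1 := Submodule.mem_map_of_mem (f := Submodule.subtype N) (SModEq.zero.1 (hx k))
    rw [Submodule.map_smul''] at h1
    exact SModEq.zero.2 (Submodule.smul_mono le_rfl le_top h1))⟩
  have hsurj : Function.Surjective (Fintype.linearCombination A G'') := by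
    refine surjective_of_mkQ_comp_surjective (I := J) fun y => ?_
    obtain ⟨⟨x, hx⟩, rfl⟩ := Submodule.mkQ_surjective _ y
    obtain ⟨p, hp⟩ := exists_sub_of_mem t n x
    have hJt : (Ideal.span {t}).map (algebraMap R A) = Ideal.span {algebraMap R A t} :=
      (Ideal.map_span _ _).trans (congrArg Ideal.span Set.image_singleton)
    replace hp := Ideal.mem_span_singleton'.1 (hJt.le hp)
    obtain ⟨x₁, hx₁⟩ := hp
    have hgp : g p = -(algebraMap R C t * Φ x₁) := by
      have := congrArg Φ hx₁
      rw [map_mul, map_sub, AlgHom.commutes, show Φ x = 0 from hx, hof] at this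
      linear_combination this
    have hk : p - σ (g p) ∈ RingHom.ker g.toRingHom := by
      show g (p - σ (g p)) = 0
      rw [map_sub, hσ', sub_self]
    rw [← hG] at hk
    obtain ⟨c, hc⟩ := (Submodule.mem_span_range_iff_exists_fun _).1 hk
    refine ⟨fun i => algebraMap _ A (c i), ?_⟩
    rw [LinearMap.comp_apply, Submodule.mkQ_apply, Submodule.mkQ_apply, Submodule.Quotient.eq]
    have hmem : x₁ - algebraMap _ A (σ (Φ x₁)) ∈ N := by
      show Φ _ = 0
      rw [map_sub, show Φ (algebraMap _ A (σ (Φ x₁))) = g (σ (Φ x₁)) from hof _, hσ', sub_self]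
    have heq : (Fintype.linearCombination A G'' fun i => algebraMap _ A (c i)) - ⟨x, hx⟩ =
        (-(algebraMap R A t)) • (⟨_, hmem⟩ : N) := by
      refine Subtype.ext ?_
      rw [Fintype.linearCombination_apply]
      simp only [G'', G', AddSubgroupClass.coe_sub, AddSubmonoidClass.coe_finsetSum, SetLike.val_smul,
        smul_eq_mul]
      simp only [← map_mul, ← map_sum]
      simp only [← smul_eq_mul, hc]
      simp only [smul_eq_mul]
      rw [hgp, map_sub, map_neg, ← Algebra.smul_def, map_smul, Algebra.smul_def, map_neg, map_mul,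
        ← IsScalarTower.algebraMap_apply R (MvPolynomial (Fin n) R) A]
      rw [show algebraMap (MvPolynomial (Fin n) R) A p = AdicCompletion.of _ _ p from rfl]
      linear_combination hx₁
    rw [heq]
    exact Submodule.smul_mem_smul (neg_mem (Ideal.mem_map_of_mem _ (Ideal.mem_span_singleton_self t))) trivial
  show N.FG
  exact (Submodule.fg_top N).1 (Module.Finite.of_surjective _ hsurj).fg_top

theorem ringKrullDim_eq_one (C : Type u) [CommRing C] [IsDomain C] [Algebra R C] [Module.Finite R C]
    (ht : t ≠ 0) (hinj : Function.Injective (algebraMap R C)) : ringKrullDim C = 1 := by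
  haveI := isLocalRing_of_finite_domain t ht C hinj
  haveI : FaithfulSMul R C := (faithfulSMul_iff_algebraMap_injective R C).2 hinj
  have hmax : ∀ P : Ideal C, P ≠ ⊥ → P.IsPrime → P.IsMaximal := fun P hP hPp => by
    have hne : P.comap (algebraMap R C) ≠ ⊥ := fun h => hP (Ideal.eq_bot_of_comap_eq_bot h)
    exact Ideal.isMaximal_of_isIntegral_of_isMaximal_comap P ((hPp.comap _).isMaximal_of_ne_bot hne)
  refine ringKrullDim_eq_one_iff_of_isLocalRing_isDomain.2 ⟨fun hf => ?_, fun x hx => ?_⟩
  · obtain ⟨y, hy⟩ := hf.mul_inv_cancel ((map_ne_zero_iff _ hinj).2 ht)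
    have hu : IsUnit (algebraMap R C t) := IsUnit.of_mul_eq_one y hy
    exact (IsLocalRing.mem_maximalIdeal t).1 (mem_maximalIdeal t) (IsUnit.of_map _ _ hu)
  · rw [Ideal.radical_eq_sInf]
    refine le_sInf ?_
    rintro P ⟨hP, hPp⟩
    have hne : P ≠ ⊥ := fun h => hx (by simpa [h] using hP (Ideal.mem_span_singleton_self x))
    exact (IsLocalRing.eq_maximalIdeal (hmax P hne hPp)).ge

omit [IsDomain R] [ValuationRing R] [Ring.KrullDimLE 1 R] in
theorem surjective_of_surjective_cLoc {A : Type u} [CommRing A] [Algebra R A] {f : A}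
    {B : Type u} [CommRing B] [IsDomain B] [Algebra R B] [Module.Finite R B]
    (u : AdicRing.CLoc (Ideal.span {t}) f →ₐ[R] B) (hu : Function.Surjective u) :
    Function.Surjective (u.toRingHom.comp (algebraMap A (AdicRing.CLoc (Ideal.span {t}) f))) := by
  classical
  let v : A →ₐ[R] B := u.comp (IsScalarTower.toAlgHom R A _)
  let C : Subalgebra R B := v.range
  let L := Localization.Away f
  let J : Ideal L := (Ideal.span {t}).map (algebraMap R L)
  have hJfg : J.FG := Ideal.FG.map (f := algebraMap R L) (Submodule.fg_span_singleton t)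
  obtain ⟨w, hw⟩ : IsUnit (v f) :=
    (((IsLocalization.Away.algebraMap_isUnit f).map (algebraMap L (AdicCompletion J L))).map u :)
  have hwC : (↑w⁻¹ : B) ∈ C := by
    have h1 : (↑w⁻¹ : B) ∈ Algebra.adjoin R {(w : B)} := by
      let D := Algebra.adjoin R {(w : B)}
      haveI : Algebra.IsIntegral D B := Algebra.IsIntegral.tower_top (R := R)
      obtain ⟨z, hz⟩ := IsUnit.of_map (algebraMap D B) (⟨w, Algebra.subset_adjoin rfl⟩ : D) w.isUnit
      have h2 : (w : B) * ((↑z⁻¹ : D) : B) = 1 := by
        have := congrArg Subtype.val z.mul_inv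
        rw [hz] at this
        exact this
      rw [Units.inv_eq_of_mul_eq_one_right h2]
      exact Subtype.mem _
    refine Algebra.adjoin_le ?_ h1
    rintro _ rfl
    exact ⟨f, hw.symm⟩
  have hmod : ∀ b : B, ∃ c ∈ C, b - c ∈ (Ideal.span {t}).map (algebraMap R B) := by
    intro b
    obtain ⟨z, rfl⟩ := hu b
    obtain ⟨y, hy⟩ := Ideal.Quotient.mk_surjective (AdicCompletion.evalOneₐ J z)
    have hd : z - algebraMap L (AdicCompletion J L) y ∈ J.map (algebraMap L (AdicCompletion J L)) := by
      rw [← AdicCompletion.ker_evalOneₐ_eq_map J hJfg, RingHom.mem_ker]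
      rw [map_sub, AdicCompletion.algebraMap_apply]; simpa [sub_eq_zero] using hy.symm
    rw [Ideal.map_map, ← IsScalarTower.algebraMap_eq] at hd
    obtain ⟨⟨a, ⟨_, m, rfl⟩⟩, ha⟩ := IsLocalization.surj (Submonoid.powers f) y
    refine ⟨u (algebraMap L _ y), ?_, by rw [← map_sub]; exact apply_mem_map u hd⟩
    have h2 := congrArg (fun e => u (algebraMap L (AdicCompletion J L) e)) ha
    simp only [map_mul, map_pow] at h2
    replace h2 : u (algebraMap L _ y) * (↑w : B) ^ m = v a := by rw [hw]; exact h2
    have h3 : u (algebraMap L _ y) = v a * (↑w⁻¹ : B) ^ m := by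
      rw [← h2, mul_assoc, ← mul_pow, Units.mul_inv, one_pow, mul_one]
    rw [h3]
    exact mul_mem ⟨a, rfl⟩ (pow_mem hwC m)
  have hjac : Ideal.span {t} ≤ Ideal.jacobson (⊥ : Ideal R) := IsAdicComplete.le_jacobson_bot _
  have htop : (⊤ : Submodule R B) ≤ C.toSubmodule := by
    refine Submodule.le_of_le_smul_of_le_jacobson_bot Module.Finite.fg_top hjac fun b _ => ?_
    obtain ⟨c, hc, hbc⟩ := hmod b
    rw [Ideal.smul_top_eq_map]
    exact Submodule.mem_sup.2 ⟨c, hc, b - c, hbc, add_sub_cancel _ _⟩
  intro b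
  exact htop (Submodule.mem_top (x := b))

end Groth.Agent.AdicRingLib
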