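import Mathlib
import Groth.Agent.AdicRingLib.RigAdm

/-!
Topologically finite type domains all of whose nonzero primes contain `t` are finite.
-/

namespace Groth.Agent.AdicRingLib

universe u

open MvPolynomial

variable {R : Type u} [CommRing R] [IsDomain R] [ValuationRing R] [Ring.KrullDimLE 1 R] (t : R)
  [IsAdicComplete (Ideal.span {t}) R]

omit [Ring.KrullDimLE 1 R] in
/-- Every nonzero restricted power series is a scalar times one with nonzero reduction. -/
theorem exists_content (ht : t ≠ 0) {d : ℕ} (f : AdicRing.RPow R (Ideal.span {t}) d) (hf : f ≠ 0) :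
    ∃ (c : R) (f' : AdicRing.RPow R (Ideal.span {t}) d) (p : MvPolynomial (Fin d) R),
      c ≠ 0 ∧ f = algebraMap R _ c * f' ∧
      f' - AdicCompletion.of _ (MvPolynomial (Fin d) R) p ∈
        (IsLocalRing.maximalIdeal R).map (algebraMap R (AdicRing.RPow R (Ideal.span {t}) d)) ∧
      MvPolynomial.map (IsLocalRing.residue R) p ≠ 0 := by
  classical
  let A := AdicRing.RPow R (Ideal.span {t}) d
  set J := (Ideal.span {t}).map (algebraMap R A) with hJ
  haveI : IsAdicComplete J A := isAdicComplete_rPow t d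
  have hpow : ∀ k, J ^ k = Ideal.span {algebraMap R A t ^ k} := fun k => by
    rw [hJ, ← Ideal.map_pow, Ideal.span_singleton_pow]
    exact (Ideal.map_span _ _).trans (congrArg Ideal.span (Set.image_singleton.trans (by rw [map_pow])))
  have hex : ∃ k, f ∉ J ^ k := by
    by_contra h
    push_neg at h
    exact hf (IsHausdorff.haus (I := J) inferInstance f fun k => SModEq.zero.2 (by
      rw [smul_eq_mul, Ideal.mul_top]; exact h k))
  obtain ⟨k, hk⟩ : ∃ k, Nat.find hex = k + 1 := Nat.exists_eq_succ_of_ne_zero fun h0 => by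
    have := Nat.find_spec hex
    rw [h0, pow_zero, Ideal.one_eq_top] at this
    exact this trivial
  have hk1 : f ∉ J ^ (k + 1) := hk ▸ Nat.find_spec hex
  have hk0 : f ∈ J ^ k := by
    by_contra h
    exact absurd (Nat.find_le h : Nat.find hex ≤ k) (by omega)
  rw [hpow] at hk0
  obtain ⟨g, hg⟩ := Ideal.mem_span_singleton'.1 hk0
  obtain ⟨p, hp⟩ := exists_sub_of_mem t d g
  have hJt : (Ideal.span {t}).map (algebraMap R A) = Ideal.span {algebraMap R A t} :=
    (Ideal.map_span _ _).trans (congrArg Ideal.span Set.image_singleton)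
  obtain ⟨h, hh⟩ := Ideal.mem_span_singleton'.1 (hJt.le hp)
  -- a coefficient dividing all coefficients of `p`
  have hne : p.support.Nonempty := by
    rw [MvPolynomial.support_nonempty]
    rintro rfl
    refine hk1 ?_
    rw [hpow, Ideal.mem_span_singleton']
    refine ⟨h, ?_⟩
    rw [map_zero, sub_zero] at hh
    rw [← hg, ← hh, pow_succ]
    ring
  obtain ⟨i₀, hi₀, hmax⟩ : ∃ i₀ ∈ p.support, ∀ i ∈ p.support, p.coeff i₀ ∣ p.coeff i := by
    revert hne
    generalize p.support = s
    intro hne
    induction hne using Finset.Nonempty.cons_induction with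
    | singleton a => exact ⟨a, Finset.mem_singleton_self a, fun i hi => by simp [Finset.mem_singleton.1 hi]⟩
    | cons a s ha hs ih =>
      obtain ⟨j, hj, hj'⟩ := ih
      rcases ValuationRing.dvd_total (p.coeff a) (p.coeff j) with h | h
      · exact ⟨a, Finset.mem_cons_self a s, fun i hi => (Finset.mem_cons.1 hi).elim (by rintro rfl; rfl)
          fun hi => h.trans (hj' i hi)⟩
      · exact ⟨j, Finset.mem_cons_of_mem hj, fun i hi => (Finset.mem_cons.1 hi).elim (by rintro rfl; exact h)
          (hj' i)⟩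
  set c := p.coeff i₀ with hc
  have hdvd : C c ∣ p := by
    rw [MvPolynomial.C_dvd_iff_dvd_coeff]
    intro i
    by_cases hi : i ∈ p.support
    · exact hmax i hi
    · rw [MvPolynomial.notMem_support_iff.1 hi]; exact dvd_zero _
  obtain ⟨p', hp'⟩ := hdvd
  have hc0 : c ≠ 0 := MvPolynomial.mem_support_iff.1 hi₀
  have hunit : p'.coeff i₀ = 1 := mul_left_cancel₀ hc0 (by
    rw [← MvPolynomial.coeff_C_mul, ← hp', mul_one])
  have htc : ¬ t ∣ c := fun ⟨a, ha⟩ => hk1 <| by
    rw [hpow, Ideal.mem_span_singleton']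
    refine ⟨h + algebraMap R A a * algebraMap (MvPolynomial (Fin d) R) A p', ?_⟩
    have hpA : AdicCompletion.of _ (MvPolynomial (Fin d) R) p =
        algebraMap R A c * algebraMap (MvPolynomial (Fin d) R) A p' := by
      show algebraMap (MvPolynomial (Fin d) R) A p = _
      rw [hp', map_mul]
      exact congrArg (· * _) (IsScalarTower.algebraMap_apply R (MvPolynomial (Fin d) R) A c).symm
    rw [hpA, ha, map_mul] at hh
    rw [← hg, pow_succ]
    linear_combination (algebraMap R A t ^ k) * hh
  obtain ⟨r, hr⟩ := (ValuationRing.dvd_total c t).resolve_right htc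
  have hrm : r ∈ IsLocalRing.maximalIdeal R := (IsLocalRing.mem_maximalIdeal r).2 fun hu =>
    htc ⟨↑hu.unit⁻¹, by rw [hr, mul_assoc, IsUnit.mul_val_inv, mul_one]⟩
  refine ⟨t ^ k * c, algebraMap (MvPolynomial (Fin d) R) A p' + algebraMap R A r * h, p',
    mul_ne_zero (pow_ne_zero _ ht) hc0, ?_, ?_, fun h0 => ?_⟩
  · rw [← hg]
    have hpA : AdicCompletion.of _ (MvPolynomial (Fin d) R) p =
        algebraMap R A c * algebraMap (MvPolynomial (Fin d) R) A p' := by
      show algebraMap (MvPolynomial (Fin d) R) A p = _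
      rw [hp', map_mul]
      exact congrArg (· * _) (IsScalarTower.algebraMap_apply R (MvPolynomial (Fin d) R) A c).symm
    rw [hpA] at hh
    have htr : algebraMap R A t = algebraMap R A c * algebraMap R A r := by rw [← map_mul, ← hr]
    rw [map_mul, map_pow]
    linear_combination (algebraMap R A t ^ k) * (-hh + h * htr)
  · rw [show algebraMap (MvPolynomial (Fin d) R) A p' = AdicCompletion.of _ _ p' from rfl, add_sub_cancel_left]
    exact Ideal.mul_mem_right _ _ (Ideal.mem_map_of_mem _ hrm)
  · have := congrArg (MvPolynomial.coeff i₀) h0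
    rw [MvPolynomial.coeff_map, hunit, map_one, MvPolynomial.coeff_zero] at this
    exact one_ne_zero this

theorem finite_of_forall_mem (ht : t ≠ 0) {B : Type u} [CommRing B] [IsDomain B] [Algebra R B]
    (htB : algebraMap R B t ≠ 0) (hP : ∀ P : Ideal B, P.IsPrime → P ≠ ⊥ → algebraMap R B t ∈ P) {n : ℕ}
    (φ : AdicRing.RPow R (Ideal.span {t}) n →ₐ[R] B) (hφ : Function.Surjective φ) :
    Module.Finite R B := by
  classical
  have hj := mem_jacobson_of_surjective t hφ
  haveI : IsHausdorff ((Ideal.span {t}).map (algebraMap R B)) B := by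
    refine isHausdorff_of_radical t htB hj fun b hb0 => ?_
    rw [Ideal.radical_eq_sInf, Submodule.mem_sInf]
    rintro P ⟨hbP, hPp⟩
    exact hP P hPp fun h => hb0 (by simpa [h] using hbP (Ideal.mem_span_singleton_self b))
  have hinjB := algebraMap_injective_of_ne_zero t htB
  set 𝔪 := IsLocalRing.maximalIdeal R with h𝔪
  set m := 𝔪.map (algebraMap R B) with hm
  haveI : Nontrivial (B ⧸ m) := by
    rw [Ideal.Quotient.nontrivial_iff]
    intro htop
    have h1 := map_maximalIdeal_le_radical t ht B (show (1 : B) ∈ m from htop ▸ trivial)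
    obtain ⟨N, hN⟩ := h1
    rw [one_pow, Ideal.map_span, Set.image_singleton, Ideal.mem_span_singleton'] at hN
    obtain ⟨y, hy⟩ := hN
    obtain ⟨M, hM⟩ := Ideal.exists_maximal B
    have hj' := hj
    rw [Ideal.jacobson, Submodule.mem_sInf] at hj'
    exact hM.ne_top ((Ideal.eq_top_iff_one _).2 (hy ▸ M.mul_mem_left y (hj' M ⟨bot_le, hM⟩)))
  letI : Field (R ⧸ 𝔪) := Ideal.Quotient.field _
  let ψ : MvPolynomial (Fin n) R →ₐ[R] B ⧸ m :=
    ((Ideal.Quotient.mkₐ R m).comp φ).comp (IsScalarTower.toAlgHom R _ _)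
  have hψ : Function.Surjective ψ := fun y => by
    obtain ⟨b, rfl⟩ := Ideal.Quotient.mk_surjective y
    obtain ⟨z, rfl⟩ := hφ b
    obtain ⟨p, hp⟩ := exists_sub_of_mem t n z
    refine ⟨p, (Ideal.Quotient.eq.2 ?_).symm⟩
    show φ z - φ (AdicCompletion.of _ _ p) ∈ m
    rw [← map_sub]
    refine Ideal.map_mono ?_ (apply_mem_map φ hp)
    rw [Ideal.span_le, Set.singleton_subset_iff]
    exact mem_maximalIdeal t
  haveI : Algebra.FiniteType R (B ⧸ m) := Algebra.FiniteType.iff_quotient_mvPolynomial''.2 ⟨n, ψ, hψ⟩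
  haveI : Algebra.FiniteType (R ⧸ 𝔪) (B ⧸ m) :=
    Algebra.FiniteType.of_restrictScalars_finiteType R _ _
  obtain ⟨d, g, hginj, hgfin⟩ := exists_finite_inj_algHom_of_fg (R ⧸ 𝔪) (B ⧸ m)
  choose y hy using fun i : Fin d => Ideal.Quotient.mk_surjective (g (X i))
  choose z hz using fun i => hφ (y i)
  haveI := isAdicComplete_rPow t n
  let A := AdicRing.RPow R (Ideal.span {t}) d
  let τ : A →ₐ[R] AdicRing.RPow R (Ideal.span {t}) n := completionLift (Ideal.span {t}) (aeval z)
  let ρ : A →ₐ[R] B := φ.comp τ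
  let red : MvPolynomial (Fin d) R →+* MvPolynomial (Fin d) (R ⧸ 𝔪) := MvPolynomial.map (Ideal.Quotient.mk 𝔪)
  have hred : ∀ p, Ideal.Quotient.mk m (ρ (AdicCompletion.of _ _ p)) = g (red p) := by
    have : ((Ideal.Quotient.mk m).comp ρ.toRingHom).comp (algebraMap (MvPolynomial (Fin d) R) A) =
        g.toRingHom.comp red := by
      refine MvPolynomial.ringHom_ext (fun a => ?_) fun i => ?_
      · show Ideal.Quotient.mk m (ρ (algebraMap (MvPolynomial (Fin d) R) A (C a))) = g (red (C a))
        rw [show algebraMap (MvPolynomial (Fin d) R) A (C a) = algebraMap R A a from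
          (IsScalarTower.algebraMap_apply R (MvPolynomial (Fin d) R) A a).symm, ρ.commutes]
        show _ = g (MvPolynomial.map _ (C a))
        rw [MvPolynomial.map_C, ← MvPolynomial.algebraMap_eq, g.commutes]
        rfl
      · show Ideal.Quotient.mk m (φ (τ (AdicCompletion.of _ _ (X i)))) = g (MvPolynomial.map _ (X i))
        rw [show τ (AdicCompletion.of _ _ (X i)) = aeval z (X i) from completionLift_of _ _ _, aeval_X, hz, hy,
          MvPolynomial.map_X]
    exact fun p => RingHom.congr_fun this p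
  have hρinj : Function.Injective ρ := by
    rw [injective_iff_map_eq_zero]
    intro f hf0
    by_contra hne
    obtain ⟨c, f', p, hc, hcf, hfp, hp⟩ := exists_content t ht f hne
    rw [hcf, map_mul, ρ.commutes] at hf0
    have hf'0 := (mul_eq_zero.1 hf0).resolve_left ((map_ne_zero_iff _ hinjB).2 hc)
    have h1 := apply_mem_map ρ hfp
    rw [map_sub, hf'0, zero_sub, Ideal.neg_mem_iff] at h1
    exact hp ((map_eq_zero_iff _ hginj).1 ((hred p).symm.trans (Ideal.Quotient.eq_zero_iff_mem.2 h1)))
  haveI := isAdicComplete_rPow t d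
  letI : Algebra A B := ρ.toRingHom.toAlgebra
  haveI : IsScalarTower R A B := IsScalarTower.of_algebraMap_eq fun r => (ρ.commutes r).symm
  haveI : Module.Finite A B := by
    refine finite_of_integral_mod t A φ hφ fun i => ?_
    obtain ⟨Q, hQ, hQ0⟩ := hgfin.to_isIntegral (Ideal.Quotient.mk m
      (φ (AdicCompletion.of _ (MvPolynomial (Fin n) R) (X i))))
    obtain ⟨Q', hQ', -, hQ'm⟩ := Polynomial.lifts_and_degree_eq_and_monic (f := red) (p := Q)
      ((Polynomial.lifts_iff_coeff_lifts _).2 fun j =>
        (MvPolynomial.map_surjective _ Ideal.Quotient.mk_surjective) _) hQ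
    refine ⟨Q'.map (algebraMap _ A), hQ'm.map _, map_maximalIdeal_le_radical t ht B ?_⟩
    rw [← Ideal.Quotient.eq_zero_iff_mem, Polynomial.aeval_def, Polynomial.hom_eval₂, Polynomial.eval₂_map]
    refine Eq.trans ?_ hQ0
    rw [← hQ', Polynomial.eval₂_map]
    refine congrArg (fun e => Polynomial.eval₂ e _ Q') ?_
    exact RingHom.ext hred
  rcases Nat.eq_zero_or_pos d with rfl | hd
  · haveI : Module.Finite (R ⧸ 𝔪) (B ⧸ m) := by
      refine RingHom.finite_algebraMap.1 ?_
      rw [← g.comp_algebraMap]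
      exact RingHom.Finite.comp hgfin (RingHom.Finite.of_surjective _ fun p =>
        ⟨p.coeff 0, (MvPolynomial.eq_C_of_isEmpty p).symm⟩)
    haveI : Module.Finite R (B ⧸ m) := Module.Finite.trans (R ⧸ 𝔪) _
    exact finite_of_isHausdorff_of_finite t ht φ hφ
  · exfalso
    haveI : IsAdicComplete ((Ideal.span {t}).map (algebraMap R R)) R := by
      rw [Algebra.algebraMap_self, Ideal.map_id]
      infer_instance
    let ev : A →ₐ[R] R := completionLift (Ideal.span {t}) (aeval fun _ => 0)
    let X₀ : A := AdicCompletion.of _ _ (X ⟨0, hd⟩)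
    have hX0 : ev X₀ = 0 := (completionLift_of _ _ _).trans (aeval_X _ _)
    have hXne : X₀ ≠ 0 := fun h => by
      let ev1 : A →ₐ[R] R := completionLift (Ideal.span {t}) (aeval fun _ => 1)
      have h1 : ev1 X₀ = 1 := (completionLift_of _ _ _).trans (aeval_X _ _)
      rw [h, map_zero] at h1
      exact zero_ne_one h1
    haveI : (RingHom.ker ev).IsPrime := RingHom.ker_isPrime _
    obtain ⟨P, hPp, hPc⟩ := Ideal.exists_ideal_over_prime_of_isIntegral_of_isDomain (S := B) (RingHom.ker ev)
      (by rw [show algebraMap A B = ρ.toRingHom from rfl, (RingHom.injective_iff_ker_eq_bot ρ.toRingHom).1 hρinj]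
          exact bot_le)
    have hPne : P ≠ ⊥ := fun h => hXne (hρinj ((show ρ X₀ = 0 from by
      have : X₀ ∈ P.comap (algebraMap A B) := by rw [hPc]; exact hX0
      rwa [Ideal.mem_comap, h, Ideal.mem_bot] at this).trans (map_zero ρ).symm))
    have htQ : algebraMap R A t ∈ RingHom.ker ev := by
      rw [← hPc, Ideal.mem_comap, ← IsScalarTower.algebraMap_apply]
      exact hP P hPp hPne
    rw [RingHom.mem_ker, ev.commutes] at htQ
    exact ht htQ

theorem isLocalization_powers (ht : t ≠ 0) : IsLocalization (Submonoid.powers t) (FractionRing R) := by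
  refine (isLocalization_iff _ _).2 ⟨?_, ?_, ?_⟩
  · rintro ⟨_, k, rfl⟩
    exact IsUnit.mk0 _ ((map_ne_zero_iff _ (IsFractionRing.injective R _)).2 (pow_ne_zero k ht))
  · intro z
    obtain ⟨a, s, hs, rfl⟩ := IsFractionRing.div_surjective R z
    obtain ⟨N, c, hc⟩ := exists_pow_dvd_of_mem_maximalIdeal (nonZeroDivisors.ne_zero hs) (mem_maximalIdeal t)
    refine ⟨(a * c, ⟨t ^ N, N, rfl⟩), ?_⟩
    show algebraMap R _ a / algebraMap R _ s * algebraMap R _ (t ^ N) = algebraMap R _ (a * c)
    rw [hc, map_mul, map_mul, ← mul_assoc, div_mul_cancel₀ _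
      ((map_ne_zero_iff _ (IsFractionRing.injective R _)).2 (nonZeroDivisors.ne_zero hs))]
  · intro x y h
    exact ⟨1, by rw [IsFractionRing.injective R _ h]⟩

theorem nonOpen_primes_correspond (ht : t ≠ 0) {A : Type u} [CommRing A] [Algebra R A] {n : ℕ}
    (φ : AdicRing.RPow R (Ideal.span {t}) n →ₐ[R] A) (hφ : Function.Surjective φ) :
    (∀ p : Ideal A, p.IsPrime → algebraMap R A t ∉ p → ringKrullDim (A ⧸ p) = 1 →
      (p.map (Algebra.TensorProduct.includeLeftRingHom : A →+* TensorProduct R A (FractionRing R))).IsMaximal ∧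
      (p.map (Algebra.TensorProduct.includeLeftRingHom : A →+* TensorProduct R A (FractionRing R))).comap
        (Algebra.TensorProduct.includeLeftRingHom : A →+* TensorProduct R A (FractionRing R)) = p) ∧
    (∀ m : Ideal (TensorProduct R A (FractionRing R)), m.IsMaximal →
      algebraMap R A t ∉ m.comap (Algebra.TensorProduct.includeLeftRingHom : A →+* TensorProduct R A (FractionRing R)) ∧
      ringKrullDim (A ⧸ m.comap (Algebra.TensorProduct.includeLeftRingHom : A →+* TensorProduct R A (FractionRing R))) = 1 ∧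
      (m.comap (Algebra.TensorProduct.includeLeftRingHom : A →+* TensorProduct R A (FractionRing R))).map
        (Algebra.TensorProduct.includeLeftRingHom : A →+* TensorProduct R A (FractionRing R)) = m) := by
  let K := FractionRing R
  let S := Algebra.algebraMapSubmonoid A (Submonoid.powers t)
  haveI := isLocalization_powers t ht
  letI : Algebra K (TensorProduct R A K) := Algebra.TensorProduct.rightAlgebra
  haveI : IsLocalization S (TensorProduct R A K) :=
    (Algebra.isLocalization_iff_isPushout (Submonoid.powers t) K).2 inferInstance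
  have hdisj : ∀ p : Ideal A, p.IsPrime → algebraMap R A t ∉ p → Disjoint (S : Set A) p := fun p hp htp => by
    rw [Set.disjoint_left]
    rintro _ ⟨_, ⟨k, rfl⟩, rfl⟩ h
    rw [SetLike.mem_coe, map_pow] at h
    exact htp (hp.mem_of_pow_mem k h)
  refine ⟨fun p hp htp hdim => ?_, fun m hm => ?_⟩
  · have hc := IsLocalization.comap_map_of_isPrime_disjoint S (TensorProduct R A K) hp (hdisj p hp htp)
    refine ⟨?_, hc⟩
    have hpK := IsLocalization.isPrime_of_isPrime_disjoint S (TensorProduct R A K) p hp (hdisj p hp htp)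
    obtain ⟨M, hM, hpM⟩ := Ideal.exists_le_maximal _ hpK.ne_top
    by_cases hq : M.comap (algebraMap A (TensorProduct R A K)) ≤ p
    · have hM' : M = p.map (algebraMap A (TensorProduct R A K)) := le_antisymm
        (by rw [← IsLocalization.map_comap S (TensorProduct R A K) M]; exact Ideal.map_mono hq) hpM
      exact hM' ▸ hM
    exfalso
    obtain ⟨x, hxM, hxp⟩ := SetLike.not_le_iff_exists.1 hq
    haveI : Ring.KrullDimLE 1 (A ⧸ p) := Ring.krullDimLE_iff.2 hdim.le
    have htp' : algebraMap R (A ⧸ p) t ≠ 0 := fun h => htp (Ideal.Quotient.eq_zero_iff_mem.1 h)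
    haveI := finite_of_krullDimLE_one t ht htp' ((Ideal.Quotient.mkₐ R p).comp φ)
      (Ideal.Quotient.mk_surjective.comp hφ)
    set Q := (M.comap (algebraMap A (TensorProduct R A K))).map (Ideal.Quotient.mk p) with hQ
    have hle : RingHom.ker (Ideal.Quotient.mk p) ≤ M.comap (algebraMap A (TensorProduct R A K)) := by
      rw [Ideal.mk_ker]
      exact (le_of_eq hc.symm).trans (Ideal.comap_mono hpM)
    have hQp : Q.IsPrime := Ideal.map_isPrime_of_surjective Ideal.Quotient.mk_surjective hle
    have hQ0 : Q ≠ ⊥ := fun h => hxp (Ideal.Quotient.eq_zero_iff_mem.1 (by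
      have := Ideal.mem_map_of_mem (Ideal.Quotient.mk p) hxM
      rwa [← hQ, h, Ideal.mem_bot] at this))
    have hne : Q.comap (algebraMap R (A ⧸ p)) ≠ ⊥ := fun h => hQ0 (Ideal.eq_bot_of_comap_eq_bot h)
    have htQ : t ∈ Q.comap (algebraMap R (A ⧸ p)) := by
      rw [IsLocalRing.eq_maximalIdeal ((hQp.comap _).isMaximal_of_ne_bot hne)]
      exact mem_maximalIdeal t
    have htM : algebraMap A (TensorProduct R A K) (algebraMap R A t) ∈ M := by
      rw [Ideal.mem_comap, hQ] at htQ
      obtain ⟨y, hy, hye⟩ := (Ideal.mem_map_iff_of_surjective _ Ideal.Quotient.mk_surjective).1 htQ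
      exact ((Submodule.sub_mem_iff_right _ hy).1 (show y - algebraMap R A t ∈ _ from hle (by
        rw [RingHom.mem_ker, map_sub, hye, sub_eq_zero]; rfl)) :)
    exact hM.ne_top (Ideal.eq_top_of_isUnit_mem _ htM
      (IsLocalization.map_units (TensorProduct R A K) (⟨_, t, ⟨1, pow_one t⟩, rfl⟩ : S)))
  · have hm' := (IsLocalization.isPrime_iff_isPrime_disjoint S (TensorProduct R A K) m).1 hm.isPrime
    set p := m.comap (algebraMap A (TensorProduct R A K)) with hp
    have htp : algebraMap R A t ∉ p := fun h =>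
      Set.disjoint_left.1 hm'.2 (⟨t, ⟨1, pow_one t⟩, rfl⟩ : algebraMap R A t ∈ S) h
    refine ⟨htp, ?_, IsLocalization.map_comap S (TensorProduct R A K) m⟩
    haveI := hm'.1
    have htp' : algebraMap R (A ⧸ p) t ≠ 0 := fun h => htp (Ideal.Quotient.eq_zero_iff_mem.1 h)
    haveI := finite_of_forall_mem t ht htp' (fun P hP hP0 => by
      by_contra htP
      have hP' := hdisj (P.comap (Ideal.Quotient.mk p)) (hP.comap _) htP
      have hpP : p ≤ P.comap (Ideal.Quotient.mk p) := fun y hy => by
        rw [Ideal.mem_comap, Ideal.Quotient.eq_zero_iff_mem.2 hy]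
        exact P.zero_mem
      have heq : (P.comap (Ideal.Quotient.mk p)).map (algebraMap A (TensorProduct R A K)) = m := by
        refine (hm.eq_of_le (IsLocalization.isPrime_of_isPrime_disjoint S (TensorProduct R A K) _
          (hP.comap _) hP').ne_top ?_).symm
        rw [← IsLocalization.map_comap S (TensorProduct R A K) m]
        exact Ideal.map_mono hpP
      have : P.comap (Ideal.Quotient.mk p) = p := by
        rw [← IsLocalization.comap_map_of_isPrime_disjoint S (TensorProduct R A K) (hP.comap _) hP', heq]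
      refine hP0 ?_
      rw [← Ideal.map_comap_of_surjective _ Ideal.Quotient.mk_surjective P, this, Ideal.map_quotient_self])
      ((Ideal.Quotient.mkₐ R p).comp φ) (Ideal.Quotient.mk_surjective.comp hφ)
    exact ringKrullDim_eq_one t (A ⧸ p) ht (algebraMap_injective_of_ne_zero t htp')

end Groth.Agent.AdicRingLib
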