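import Mathlib
import Groth.Agent.AdicRingLib.RigGeneric

/-!
Integrality criteria over complete rank one valuation rings; flatness of restricted power series.
-/

namespace Groth.Agent.AdicRingLib

universe u

variable {R : Type u} [CommRing R] [IsDomain R] [ValuationRing R] [Ring.KrullDimLE 1 R] (t : R)

theorem isIntegral_or_inv_isIntegral [IsAdicComplete (Ideal.span {t}) R] (ht : t ≠ 0)
    (L : Type u) [Field L] [Algebra R L] [Algebra.IsAlgebraic R L]
    (hinjL : Function.Injective (algebraMap R L)) (x : L) : IsIntegral R x ∨ IsIntegral R x⁻¹ := by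
  classical
  let S := integralClosure R L
  have hintS : ∀ z : S, IsIntegral R (z : L) := fun z => z.2
  haveI : IsLocalRing S := by
    refine { isUnit_or_isUnit_of_add_one := fun {a b} hab => ?_ }
    let C : Subalgebra R L := Algebra.adjoin R {(a : L), (b : L)}
    haveI : Module.Finite R C := Algebra.finite_adjoin_of_finite_of_isIntegral (Set.toFinite _)
      (by rintro x (rfl | rfl) <;> exact hintS _)
    haveI := isLocalRing_of_finite_domain t ht C fun x y h => hinjL (congrArg Subtype.val h)
    have hCS : ∀ z ∈ C, z ∈ S := fun z hz =>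
      (Algebra.adjoin_le (S := S) (by rintro x (rfl | rfl) <;> exact (Subtype.mem _)) hz)
    let ι : C →+* S := { toFun := fun z => ⟨z, hCS _ z.2⟩
                         map_one' := rfl, map_mul' := fun _ _ => rfl, map_zero' := rfl, map_add' := fun _ _ => rfl }
    have key : (⟨a, Algebra.subset_adjoin (by simp)⟩ : C) + ⟨b, Algebra.subset_adjoin (by simp)⟩ = 1 :=
      Subtype.ext (congrArg (fun z : S => (z : L)) hab : (a : L) + (b : L) = 1)
    exact (IsLocalRing.isUnit_or_isUnit_of_isUnit_add (key ▸ isUnit_one)).imp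
      (fun h => by simpa [ι] using h.map ι) (fun h => by simpa [ι] using h.map ι)
  have hcl : ∀ z : L, IsIntegral S z → z ∈ (algebraMap S L).range := fun z hz =>
    ⟨⟨z, isIntegral_trans (R := R) (A := S) z hz⟩, rfl⟩
  obtain ⟨P, hP0, hP⟩ := Algebra.IsAlgebraic.isAlgebraic (R := R) x
  have hne : P.support.Nonempty := Polynomial.support_nonempty.2 hP0
  obtain ⟨i₀, hi₀, hmax⟩ : ∃ i₀ ∈ P.support, ∀ i ∈ P.support, P.coeff i₀ ∣ P.coeff i := by
    revert hne
    generalize P.support = s
    intro hne
    induction hne using Finset.Nonempty.cons_induction with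
    | singleton a => exact ⟨a, Finset.mem_singleton_self a, fun i hi => by simp [Finset.mem_singleton.1 hi]⟩
    | cons a s ha hs ih =>
      obtain ⟨j, hj, hj'⟩ := ih
      rcases ValuationRing.dvd_total (P.coeff a) (P.coeff j) with h | h
      · exact ⟨a, Finset.mem_cons_self a s, fun i hi => (Finset.mem_cons.1 hi).elim (by rintro rfl; rfl)
          fun hi => h.trans (hj' i hi)⟩
      · exact ⟨j, Finset.mem_cons_of_mem hj, fun i hi => (Finset.mem_cons.1 hi).elim (by rintro rfl; exact h)
          (hj' i)⟩
  have hall : ∀ i, ∃ r, P.coeff i = P.coeff i₀ * r := fun i => by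
    by_cases hi : i ∈ P.support
    · exact hmax i hi
    · exact ⟨0, by simpa using hi⟩
  choose r hr using hall
  have hc0 : P.coeff i₀ ≠ 0 := Polynomial.mem_support_iff.1 hi₀
  have hr0 : r i₀ = 1 := mul_left_cancel₀ hc0 ((hr i₀).symm.trans (mul_one _).symm)
  refine (mem_or_inv_mem_of_sum_eq_zero (S := S) Subtype.val_injective hcl x P.natDegree
    (fun i => algebraMap R S (r i)) ?_ ⟨i₀, Polynomial.le_natDegree_of_mem_supp i₀ hi₀, by simp [hr0]⟩).imp
      (fun h => ?_) (fun h => ?_)
  · refine mul_left_cancel₀ ((map_ne_zero_iff _ hinjL).2 hc0) ?_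
    rw [mul_zero, Finset.mul_sum, ← hP, Polynomial.aeval_eq_sum_range]
    refine Finset.sum_congr rfl fun i _ => ?_
    rw [← IsScalarTower.algebraMap_apply R S L, ← mul_assoc, ← map_mul, ← hr, Algebra.smul_def]
  all_goals
    obtain ⟨y, hy⟩ := h
    exact hy ▸ y.2

theorem isIntegral_iff_norm_mem_range [IsAdicComplete (Ideal.span {t}) R] (ht : t ≠ 0) (L : Type u) [Field L]
    [Algebra R L] [Algebra (FractionRing R) L] [IsScalarTower R (FractionRing R) L]
    [Algebra.IsAlgebraic (FractionRing R) L] (α : L) :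
    IsIntegral R α ↔
      Algebra.norm (FractionRing R) (IntermediateField.AdjoinSimple.gen (FractionRing R) α) ∈
        (algebraMap R (FractionRing R)).range := by
  let K := FractionRing R
  let E := IntermediateField.adjoin K ({α} : Set L)
  let g : E := IntermediateField.AdjoinSimple.gen K α
  have hαK : IsIntegral K α := Algebra.IsIntegral.isIntegral α
  haveI : FiniteDimensional K E := IntermediateField.adjoin.finiteDimensional hαK
  haveI : IsScalarTower R E L := IsScalarTower.of_algebraMap_eq fun r => by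
    rw [IsScalarTower.algebraMap_apply R K E, IsScalarTower.algebraMap_apply R K L]
    rfl
  have hval : Function.Injective (IsScalarTower.toAlgHom R E L) := (algebraMap E L).injective
  have hnorm : ∀ x : E, IsIntegral R x → Algebra.norm K x ∈ (algebraMap R K).range := fun x hx =>
    IsIntegrallyClosed.isIntegral_iff.1 (Algebra.isIntegral_norm K hx)
  constructor
  · intro hα
    exact hnorm g ((isIntegral_algHom_iff (IsScalarTower.toAlgHom R E L) hval).1 hα)
  · rintro ⟨r, hr⟩
    by_cases hα0 : α = 0
    · rw [hα0]; exact isIntegral_zero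
    haveI : Algebra.IsAlgebraic R K := IsLocalization.isAlgebraic K (nonZeroDivisors R)
    haveI : Algebra.IsAlgebraic R L := Algebra.IsAlgebraic.trans R K L
    rcases isIntegral_or_inv_isIntegral t ht L (by
      rw [IsScalarTower.algebraMap_eq R K L]
      exact (algebraMap K L).injective.comp (IsFractionRing.injective R K)) α with h | h
    · exact h
    have hg0 : g ≠ 0 := fun h0 => hα0 (congrArg Subtype.val h0)
    have hβ : IsIntegral R (g⁻¹ : E) := (isIntegral_algHom_iff (IsScalarTower.toAlgHom R E L) hval).1 (by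
      show IsIntegral R (algebraMap E L g⁻¹)
      rw [map_inv₀]
      exact h)
    obtain ⟨s, hs⟩ := hnorm _ hβ
    have hsr : s * r = 1 := IsFractionRing.injective R K (by
      rw [map_mul, hs, hr, ← map_mul, inv_mul_cancel₀ hg0, map_one, map_one])
    have hsu : IsUnit s := IsUnit.of_mul_eq_one r hsr
    -- the constant coefficient of the minimal polynomial of `g⁻¹` is a unit
    obtain ⟨q, hqm, hq⟩ : ∃ q : Polynomial R, q.Monic ∧ q.map (algebraMap R K) = minpoly K (g⁻¹ : E) :=
      ⟨minpoly R (g⁻¹ : E), minpoly.monic hβ, (minpoly.isIntegrallyClosed_eq_field_fractions' K hβ).symm⟩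
    have hq0 : IsUnit (q.coeff 0) := by
      have hβK : IsIntegral K (g⁻¹ : E) := Algebra.IsIntegral.isIntegral _
      have h1 := Algebra.norm_eq_norm_adjoin K (g⁻¹ : E)
      rw [← IntermediateField.adjoin.powerBasis_gen hβK,
        Algebra.PowerBasis.norm_gen_eq_coeff_zero_minpoly, IntermediateField.adjoin.powerBasis_gen hβK,
        IntermediateField.minpoly_gen, ← hq, Polynomial.coeff_map, ← hs] at h1
      have h2 : s = ((-1) ^ (IntermediateField.adjoin.powerBasis hβK).dim * q.coeff 0) ^
          Module.finrank (IntermediateField.adjoin K ({(g⁻¹ : E)} : Set E)) E :=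
        IsFractionRing.injective R K (by rw [map_pow, map_mul, map_pow, map_neg, map_one]; exact h1)
      rw [h2, isUnit_pow_iff Module.finrank_pos.ne'] at hsu
      exact isUnit_of_mul_isUnit_right hsu
    have hroot : Polynomial.aeval (g⁻¹ : E) q = 0 := by
      rw [← Polynomial.aeval_map_algebraMap K, hq, minpoly.aeval]
    have hgq : g = algebraMap R E (-↑hq0.unit⁻¹) * Polynomial.aeval (g⁻¹ : E) q.divX := by
      have h1 := hroot
      rw [← Polynomial.X_mul_divX_add q, map_add, map_mul, Polynomial.aeval_X, Polynomial.aeval_C] at h1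
      have h3 : algebraMap R E ↑hq0.unit⁻¹ * algebraMap R E (q.coeff 0) = 1 := by
        rw [← map_mul, IsUnit.val_inv_mul, map_one]
      have h4 : g * g⁻¹ = 1 := mul_inv_cancel₀ hg0
      rw [map_neg]
      linear_combination g * algebraMap R E ↑hq0.unit⁻¹ * h1 - g * h3 - algebraMap R E ↑hq0.unit⁻¹ * (Polynomial.aeval (g⁻¹ : E) q.divX) * h4
    have hint : IsIntegral R g := by
      rw [hgq]
      exact isIntegral_algebraMap.mul (IsIntegral.of_mem_of_fg _ hβ.fg_adjoin_singleton _
        (Polynomial.aeval_mem_adjoin_singleton R _))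
    exact hint.map (IsScalarTower.toAlgHom R E L)

omit [IsDomain R] [ValuationRing R] [Ring.KrullDimLE 1 R] in
theorem smul_eq_zero_rPow (ht : t ∈ nonZeroDivisors R) {n : ℕ} (x : AdicRing.RPow R (Ideal.span {t}) n)
    (hx : algebraMap R _ t * x = 0) : x = 0 := by
  let P := MvPolynomial (Fin n) R
  let J : Ideal P := (Ideal.span {t}).map (MvPolynomial.C : R →+* P)
  have hJfg : J.FG := Ideal.FG.map (f := (MvPolynomial.C : R →+* P)) (Submodule.fg_span_singleton t)
  have hJ : ∀ k, J ^ k = Ideal.span {MvPolynomial.C (t ^ k)} := fun k => by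
    rw [← Ideal.map_pow, Ideal.span_singleton_pow, Ideal.map_span, Set.image_singleton]
  have hnzd : ∀ k (p : P), MvPolynomial.C (t ^ k) * p = 0 → p = 0 := fun k p hp => MvPolynomial.ext _ _ fun m => by
    have := congrArg (MvPolynomial.coeff m) hp
    rw [MvPolynomial.coeff_C_mul, MvPolynomial.coeff_zero] at this
    rw [MvPolynomial.coeff_zero]
    exact (pow_mem ht k).1 _ this
  refine AdicCompletion.ext fun k => ?_
  obtain ⟨p, hp⟩ := Submodule.Quotient.mk_surjective _ (AdicCompletion.eval J P (k + 1) x)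
  have h1 : Submodule.Quotient.mk (MvPolynomial.C t * p) = (0 : P ⧸ (J ^ (k + 1) • ⊤ : Ideal P)) := by
    have h2 : (MvPolynomial.C t : P) • x = 0 := by
      rw [← hx, Algebra.smul_def]
      exact congrArg (· * x) (IsScalarTower.algebraMap_apply R P (AdicCompletion J P) t).symm
    rw [← smul_eq_mul, Submodule.Quotient.mk_smul, hp, ← map_smul, h2, map_zero]
  rw [Submodule.Quotient.mk_eq_zero, smul_eq_mul, Ideal.mul_top, hJ, Ideal.mem_span_singleton'] at h1
  obtain ⟨a, ha⟩ := h1
  have hpk : p ∈ (J ^ k • ⊤ : Ideal P) := by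
    rw [smul_eq_mul, Ideal.mul_top, hJ, Ideal.mem_span_singleton']
    refine ⟨a, sub_eq_zero.1 (hnzd 1 _ ?_)⟩
    rw [pow_one, mul_sub, sub_eq_zero, ← ha, pow_succ, map_mul]
    ring
  have h3 := x.2 (Nat.le_succ k)
  show x.val k = (0 : AdicCompletion J P).val k
  rw [AdicCompletion.val_zero_apply, ← h3]
  show AdicCompletion.transitionMap J P _ (AdicCompletion.eval J P (k + 1) x) = 0
  rw [← hp]
  show Submodule.Quotient.mk p = 0
  rw [Submodule.Quotient.mk_eq_zero]
  exact hpk

theorem flat_rPow_of_valuation [IsAdicComplete (Ideal.span {t}) R] (ht : t ≠ 0) (n : ℕ) :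
    Module.Flat R (AdicRing.RPow R (Ideal.span {t}) n) := by
  refine Module.Flat.flat_iff_torsion_eq_bot_of_isBezout.2 ((Submodule.eq_bot_iff _).2 ?_)
  rintro x ⟨⟨a, ha⟩, hax⟩
  obtain ⟨N, c, hc⟩ := exists_pow_dvd_of_mem_maximalIdeal (nonZeroDivisors.ne_zero ha) (mem_maximalIdeal t)
  have hN : algebraMap R (AdicRing.RPow R (Ideal.span {t}) n) t ^ N * x = 0 := by
    rw [← map_pow, hc, map_mul, mul_comm (algebraMap R _ a), mul_assoc, ← Algebra.smul_def a x]
    rw [show a • x = 0 from hax, mul_zero]
  clear hc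
  induction N with
  | zero => simpa using hN
  | succ N ih =>
    rw [pow_succ', mul_assoc] at hN
    exact ih (smul_eq_zero_rPow t (mem_nonZeroDivisors_of_ne_zero ht) _ hN)

theorem flat_rPow_of_isBase (R : Type u) [CommRing R] (I : Ideal R) (hR : AdicRing.IsBase R I) (n : ℕ) :
    Module.Flat R (AdicRing.RPow R I n) := by
  obtain ⟨hc, ⟨hN, -⟩ | ⟨hD, hP, hK, t, ht, rfl⟩⟩ := hR
  · exact Module.Flat.trans R (MvPolynomial (Fin n) R) _
  · haveI := hD
    haveI : ValuationRing R := { toPreValuationRing := hP }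
    exact flat_rPow_of_valuation t ht n

end Groth.Agent.AdicRingLib
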