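import Mathlib
import Groth.Agent.AdicRingLib.RigAdm

/-!
Principalizing finitely generated ideals of finite domains over a complete rank one valuation ring.
-/

namespace Groth.Agent.AdicRingLib

universe u

theorem exists_subalgebra_span_eq_span_singleton {R : Type u} [CommRing R] [IsDomain R] [ValuationRing R]
    [Ring.KrullDimLE 1 R] (t : R) [IsAdicComplete (Ideal.span {t}) R] (ht : t ≠ 0)
    (B : Type u) [CommRing B] [IsDomain B] [Algebra R B] [Module.Finite R B]
    (hinj : Function.Injective (algebraMap R B)) {n : ℕ} (b : Fin n → B) (hb : ∃ i, b i ≠ 0) :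
    ∃ B' : Subalgebra B (FractionRing B), Module.Finite B B' ∧ IsLocalRing B' ∧ ringKrullDim B' = 1 ∧
      ∃ i, Ideal.span (Set.range fun j => algebraMap B B' (b j)) = Ideal.span {algebraMap B B' (b i)} := by
  classical
  let L := FractionRing B
  haveI := valuationRing_integralClosure_of_finite t ht B hinj
  let S := integralClosure B L
  obtain ⟨i₀, hi₀⟩ := hb
  obtain ⟨i, -, hmax⟩ : ∃ i ∈ (Finset.univ : Finset (Fin n)), ∀ j ∈ (Finset.univ : Finset (Fin n)),
      algebraMap B S (b i) ∣ algebraMap B S (b j) := by
    have hne : (Finset.univ : Finset (Fin n)).Nonempty := ⟨i₀, Finset.mem_univ _⟩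
    revert hne
    generalize (Finset.univ : Finset (Fin n)) = s
    intro hne
    induction hne using Finset.Nonempty.cons_induction with
    | singleton a => exact ⟨a, Finset.mem_singleton_self a, fun i hi => by rw [Finset.mem_singleton.1 hi]⟩
    | cons a s ha hs ih =>
      obtain ⟨j, hj, hj'⟩ := ih
      rcases ValuationRing.dvd_total (algebraMap B S (b a)) (algebraMap B S (b j)) with h | h
      · exact ⟨a, Finset.mem_cons_self a s, fun i hi => (Finset.mem_cons.1 hi).elim (by rintro rfl; rfl)
          fun hi => h.trans (hj' i hi)⟩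
      · exact ⟨j, Finset.mem_cons_of_mem hj, fun i hi => (Finset.mem_cons.1 hi).elim (by rintro rfl; exact h)
          (hj' i)⟩
  choose q hq using fun j => hmax j (Finset.mem_univ j)
  let B' : Subalgebra B L := Algebra.adjoin B (Set.range fun j => (q j : L))
  haveI hfin : Module.Finite B B' := Algebra.finite_adjoin_of_finite_of_isIntegral (Set.finite_range _)
    (by rintro _ ⟨j, rfl⟩; exact (q j).2)
  haveI : Module.Finite R B' := Module.Finite.trans B B'
  have hinj' : Function.Injective (algebraMap R B') := fun x y h => hinj (IsFractionRing.injective B L (by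
    have := congrArg Subtype.val h
    rw [IsScalarTower.algebraMap_apply R B B', IsScalarTower.algebraMap_apply R B B'] at this
    exact this))
  refine ⟨B', hfin, isLocalRing_of_finite_domain t ht B' hinj', ringKrullDim_eq_one t B' ht hinj', i, ?_⟩
  refine le_antisymm (Ideal.span_le.2 ?_) (Ideal.span_mono (Set.singleton_subset_iff.2 ⟨i, rfl⟩))
  rintro _ ⟨j, rfl⟩
  exact Ideal.mem_span_singleton.2 ⟨⟨q j, Algebra.subset_adjoin ⟨j, rfl⟩⟩,
    Subtype.ext (congrArg (Subtype.val (p := fun x => x ∈ S)) (hq j))⟩

end Groth.Agent.AdicRingLib
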