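import Mathlib
import Groth.Agent.AdicRingLib.Lift

/-!
Complete algebras with finite type reduction are quotients of restricted power series.
-/

namespace Groth.Agent.AdicRingLib

universe u

theorem exists_surjective_rPow (A : Type u) [CommRing A] (I : Ideal A) (hI : I.FG)
    (B : Type u) [CommRing B] [Algebra A B] [IsAdicComplete (I.map (algebraMap A B)) B]
    (hft : (Ideal.quotientMap (I.map (algebraMap A B)) (algebraMap A B) Ideal.le_comap_map).FiniteType) :
    ∃ (r : ℕ) (φ : AdicCompletion (I.map (MvPolynomial.C : A →+* MvPolynomial (Fin r) A))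
        (MvPolynomial (Fin r) A) →ₐ[A] B), Function.Surjective φ := by
  letI alg : Algebra (A ⧸ I) (B ⧸ I.map (algebraMap A B)) :=
    (Ideal.quotientMap (I.map (algebraMap A B)) (algebraMap A B) Ideal.le_comap_map).toAlgebra
  haveI : IsScalarTower A (A ⧸ I) (B ⧸ I.map (algebraMap A B)) :=
    IsScalarTower.of_algebraMap_eq fun _ => rfl
  haveI : Algebra.FiniteType (A ⧸ I) (B ⧸ I.map (algebraMap A B)) := hft
  haveI : Algebra.FiniteType A (B ⧸ I.map (algebraMap A B)) :=
    Algebra.FiniteType.trans (S := A ⧸ I) inferInstance inferInstance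
  obtain ⟨r, f, hf⟩ := Algebra.FiniteType.iff_quotient_mvPolynomial''.1
    (inferInstance : Algebra.FiniteType A (B ⧸ I.map (algebraMap A B)))
  choose b hb using fun i : Fin r => Ideal.Quotient.mk_surjective (f (MvPolynomial.X i))
  let g : MvPolynomial (Fin r) A →ₐ[A] B := MvPolynomial.aeval b
  let P := MvPolynomial (Fin r) A
  let J : Ideal P := I.map (algebraMap A P)
  let φ : AdicCompletion J P →ₐ[A] B := completionLift I g
  refine ⟨r, φ, ?_⟩
  haveI : IsAdicComplete (J.map (algebraMap P (AdicCompletion J P))) (AdicCompletion J P) := by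
    haveI := AdicCompletion.isAdicComplete (I := J) (M := P) (hI.map _)
    exact (IsAdicComplete.map_algebraMap_iff (I := J) (M := AdicCompletion J P)).2 inferInstance
  have hmap : (J.map (algebraMap P (AdicCompletion J P))).map φ.toRingHom = I.map (algebraMap A B) := by
    rw [Ideal.map_map, Ideal.map_map]
    congr 1
    ext a
    exact φ.commutes a
  haveI : IsHausdorff ((J.map (algebraMap P (AdicCompletion J P))).map φ.toRingHom) B := by
    rw [hmap]
    infer_instance
  refine surjective_of_mk_map_comp_surjective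
    (I := J.map (algebraMap P (AdicCompletion J P))) φ.toRingHom ?_
  have hfg : (Ideal.Quotient.mkₐ A (I.map (algebraMap A B))).comp g = f := MvPolynomial.algHom_ext fun i => by
    simp [g, hb]
  intro y
  obtain ⟨z, rfl⟩ := Ideal.Quotient.mk_surjective y
  obtain ⟨p, hp⟩ := hf (Ideal.Quotient.mk (I.map (algebraMap A B)) z)
  refine ⟨AdicCompletion.of J P p, Ideal.Quotient.eq.2 ?_⟩
  rw [hmap]
  show φ (AdicCompletion.of J P p) - z ∈ _
  rw [show φ (AdicCompletion.of J P p) = g p from completionLift_of I g p, ← Ideal.Quotient.eq, ← hp]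
  exact DFunLike.congr_fun hfg p

end Groth.Agent.AdicRingLib
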